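import Cfsg.Agent.Mrg.Omega.VP
import Cfsg.Agent.Mrg.Omega.BTwo.Entry
import Cfsg.Agent.Mrg.Omega.BTwo.Str
import Cfsg.Agent.Mrg.Omega.BTwo.SemiBasic
import Cfsg.Agent.Mrg.Omega.BTwo.RadQ
import Cfsg.Agent.Mrg.Omega.BTwo.YTor
import Cfsg.Agent.Mrg.Omega.BTwo.QuadGrp
import Cfsg.Agent.StdEven.Syl
import Cfsg.Agent.Lib.NormalAbelian
import Cfsg.Agent.Mrg.Omega.BTwo.CoordNat
import Cfsg.Agent.Mrg.Omega.All.Basic
import Cfsg.Agent.Mrg.Omega.Lie.LayerPerf
import Cfsg.Agent.Mrg.Omega.FrameI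
import Cfsg.Agent.Lib.CoprimeCommutator
import Cfsg.Agent.Mrg.Omega.Lie.LemmaTComp

-- merged: Cfsg.Agent.Mrg.Omega.IIa4.Entry
section

/-!
# II.a: the entry (`BTC` from a mutual pair of one type)

`V = V_P` a natural module, `(V, V^g)` a mutual pair, `R = V ∩ V^g`:
* `le_QQ`: `V ≤ O₂(N_G(R))` (so `b = 2`);
* `btc`: the structure `BTC V (points of V)`;
* `exists_crd`: coordinates.
-/

set_option autoImplicit false
set_option linter.unusedSectionVars false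

namespace Cfsg.Agent.Omega.IIa4

open Subgroup Cfsg.Agent.Lib.SL2Mat Cfsg.Agent.Omega.NatPair Cfsg.Agent.Omega.BTwo

section lin

variable {F : Type*} [Field F]

/-- the stabiliser of a line in `SL₂(F)` is transitive on the vectors outside the line -/
theorem exists_move_line {w v y : Fin 2 → F} (hv : dt w v ≠ 0) (hy : dt w y ≠ 0) :
    ∃ A : Matrix.SpecialLinearGroup (Fin 2) F, (∃ c : F, c ≠ 0 ∧ ap A w = c • w) ∧ ap A v = y := by
  set c := dt w v * (dt w y)⁻¹ with hc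
  have hc0 : c ≠ 0 := mul_ne_zero hv (inv_ne_zero hy)
  obtain ⟨D, hD1, hD2⟩ := exists_basis hv
  have h1 : dt (c • w) y = dt w v := by
    rw [dt_smul_left, hc, mul_assoc, inv_mul_cancel₀ hy, mul_one]
  obtain ⟨D', hD1', hD2'⟩ := exists_basis (w := c • w) (u := y) (by rw [h1]; exact hv)
  refine ⟨D' * D⁻¹, ⟨c, hc0, ?_⟩, ?_⟩
  · nth_rewrite 1 [← hD1]
    rw [ap_mul, ap_inv_ap, hD1']
  · have h2 : v = dt w v • ap D ![0, 1] := by rw [hD2, smul_smul, mul_inv_cancel₀ hv, one_smul]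
    conv_lhs => rw [h2]
    rw [ap_smul, ap_mul, ap_inv_ap, hD2', h1, smul_smul, mul_inv_cancel₀ hv, one_smul]

end lin

variable {G : Type*} [Group G] {F : Type*} [Field F] {V : Subgroup G}

/-- the elements of `N(R)` centralising `R` and `Q / R` form a 2-group if `C_{N(R)}(Q) ≤ Q` -/
theorem stab_le [Finite G] {R : Subgroup G} (hR : R ≤ QQ R)
    (hc : normalizer (R : Set G) ⊓ centralizer (QQ R : Set G) ≤ QQ R) {x : G}
    (hx : x ∈ normalizer (R : Set G)) (h1 : ∀ r ∈ R, x * r = r * x)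
    (h2 : ∀ y ∈ QQ R, x * y * x⁻¹ * y⁻¹ ∈ R) : x ∈ QQ R := by
  let T : Subgroup G :=
    { carrier := {x | x ∈ normalizer (R : Set G) ∧ (∀ r ∈ R, x * r = r * x) ∧ ∀ y ∈ QQ R, x * y * x⁻¹ * y⁻¹ ∈ R}
      one_mem' := ⟨one_mem _, fun r _ => by rw [one_mul, mul_one], fun y _ => by
        have : 1 * y * 1⁻¹ * y⁻¹ = 1 := by group
        rw [this]; exact one_mem _⟩
      mul_mem' := by
        rintro a b ⟨ha, ha1, ha2⟩ ⟨hb, hb1, hb2⟩
        refine ⟨mul_mem ha hb, fun r hr => ?_, fun y hy => ?_⟩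
        · rw [mul_assoc, hb1 r hr, ← mul_assoc, ha1 r hr, mul_assoc]
        · have e : a * b * y * (a * b)⁻¹ * y⁻¹ = a * (b * y * b⁻¹ * y⁻¹) * a⁻¹ * (a * y * a⁻¹ * y⁻¹) := by group
          rw [e]
          exact mul_mem (conj_mem_of_normalizer ha (hb2 y hy)) (ha2 y hy)
      inv_mem' := by
        rintro a ⟨ha, ha1, ha2⟩
        refine ⟨inv_mem ha, fun r hr => ?_, fun y hy => ?_⟩
        · rw [inv_mul_eq_iff_eq_mul, ← mul_assoc, ha1 r hr, mul_inv_cancel_right]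
        · have e : a⁻¹ * y * a⁻¹⁻¹ * y⁻¹ = a⁻¹ * (a * y * a⁻¹ * y⁻¹)⁻¹ * a := by group
          rw [e]
          exact conj_inv_mem_of_normalizer ha (inv_mem (ha2 y hy)) }
  have hT : IsPGroup 2 T := by
    refine isPGroup_of_odd fun c hcT ho => ?_
    obtain ⟨hc1, hc2, hc3⟩ := hcT
    have hcQ : c ∈ QQ R := by
      refine hc (mem_inf.2 ⟨hc1, mem_centralizer_iff.2 fun y hy => ?_⟩)
      exact (comm_of_odd ho ((O2_isPGroup _).to_le hR) (hc3 y hy) (hc2 _ (hc3 y hy))).symm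
    obtain ⟨n, hn⟩ := O2_isPGroup (normalizer (R : Set G)) ⟨c, hcQ⟩
    have hn' : c ^ 2 ^ n = 1 := congrArg Subtype.val hn
    have hco : Nat.Coprime (orderOf c) (2 ^ n) := (Nat.coprime_two_right.2 ho).pow_right n
    exact orderOf_eq_one_iff.1 (Nat.eq_one_of_dvd_coprimes hco dvd_rfl (orderOf_dvd_of_pow_eq_one hn'))
  have hTN : T ≤ normalizer (R : Set G) := fun y hy => hy.1
  refine le_O2_of_normal hTN hT ?_ (show x ∈ T from ⟨hx, h1, h2⟩)
  rintro g hg a ⟨ha, ha1, ha2⟩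
  refine ⟨mul_mem (mul_mem hg ha) (inv_mem hg), fun r hr => ?_, fun y hy => ?_⟩
  · have h3 := ha1 _ (conj_inv_mem_of_normalizer hg hr)
    calc g * a * g⁻¹ * r = g * (a * (g⁻¹ * r * g)) * g⁻¹ := by group
      _ = g * (g⁻¹ * r * g * a) * g⁻¹ := by rw [h3]
      _ = r * (g * a * g⁻¹) := by group
  · have h3 := ha2 _ (conj_inv_mem_of_normalizer (le_normalizer_O2 _ hg) hy)
    have h4 := conj_mem_of_normalizer hg h3
    have e : g * (a * (g⁻¹ * y * g) * a⁻¹ * (g⁻¹ * y * g)⁻¹) * g⁻¹ = g * a * g⁻¹ * y * (g * a * g⁻¹)⁻¹ * y⁻¹ := by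
      group
    rwa [e] at h4

/-- **`b = 2`** for a mutual pair of one type -/
theorem le_QQ [Finite G] [Finite F] [CharP F 2] (M : NatMod F V) (S : Sylow 2 G)
    (hS : (S : Subgroup G) ≤ normalizer (V : Set G)) {g : G} (h : NatPair.Mutual V (NatPair.cj g V))
    (hc : normalizer ((V ⊓ NatPair.cj g V : Subgroup G) : Set G) ⊓
      centralizer (QQ (V ⊓ NatPair.cj g V) : Set G) ≤ QQ (V ⊓ NatPair.cj g V)) :
    V ≤ QQ (V ⊓ NatPair.cj g V) := by
  have : Fact (Nat.Prime 2) := ⟨Nat.prime_two⟩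
  obtain ⟨-, w, w', hw, hw', hl, -⟩ := pair M (M.conj g) h
  rw [hl] at hc ⊢
  obtain ⟨S₁, hSV, hSR⟩ := M.exists_sylow S hS hw.ne
  have hQS : QQ (M.line w) ≤ (S₁ : Subgroup G) := by
    have h3 : IsPGroup 2 ((S₁ : Subgroup G) ⊔ QQ (M.line w) : Subgroup G) :=
      S₁.isPGroup'.to_sup_of_normal_right' (O2_isPGroup _) (hSR.trans (le_normalizer_O2 _))
    have h4 := S₁.is_maximal' h3 le_sup_left
    exact le_sup_right.trans_eq h4
  have hQV := hQS.trans hSV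
  have hVR : V ≤ normalizer (M.line w : Set G) := by
    intro v hv
    rw [mem_normalizer_iff]
    intro r
    constructor
    · intro hr
      rw [M.comm hv (M.line_le w hr), mul_inv_cancel_right]
      exact hr
    · intro hr
      have h1 : r ∈ V := by
        have h2 := mul_mem (mul_mem (inv_mem hv) (M.line_le w hr)) hv
        have e : v⁻¹ * (v * r * v⁻¹) * v = r := by group
        rwa [e] at h2
      rwa [M.comm hv h1, mul_inv_cancel_right] at hr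
  have hV2 : IsPGroup 2 V := fun v => ⟨1, by
    rw [pow_one, pow_two]; exact Subtype.ext (M.sq v.2)⟩
  have hRQ : M.line w ≤ QQ (M.line w) :=
    le_O2_of_normal le_normalizer (hV2.to_le (M.line_le w)) fun g hg a ha => conj_mem_of_normalizer hg ha
  by_cases hcase : ∃ v ∈ V, v ∈ QQ (M.line w) ∧ v ∉ M.line w
  · obtain ⟨v, hv, hvQ, hvR⟩ := hcase
    obtain ⟨x, rfl⟩ := (M.mem_iff v).1 hv
    have hx : dt w x ≠ 0 := by
      intro h0
      obtain ⟨c, rfl⟩ := exists_smul_of_dt hw.ne h0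
      exact hvR (M.e_mem_line.2 ⟨c, rfl⟩)
    intro v' hv'
    obtain ⟨y, rfl⟩ := (M.mem_iff v').1 hv'
    by_cases hy : dt w y = 0
    · obtain ⟨c, rfl⟩ := exists_smul_of_dt hw.ne hy
      exact hRQ (M.e_mem_line.2 ⟨c, rfl⟩)
    · obtain ⟨A, ⟨c, hc0, hAw⟩, hAx⟩ := exists_move_line hx hy
      obtain ⟨l, hlA⟩ := M.lift A
      have h1 : NatPair.cj l (M.line w) = M.line w := by
        rw [M.cj_line_of_ind hlA, hAw, M.line_smul hc0]
      have h2 : l ∈ normalizer (M.line w : Set G) := NatPair.cj_eq_iff.1 h1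
      have h3 := conj_mem_of_normalizer (le_normalizer_O2 _ h2) hvQ
      rwa [hlA, hAx] at h3
  · push Not at hcase
    intro v hv
    refine stab_le hRQ hc (hVR hv) (fun r hr => M.comm hv (M.line_le w hr)) fun y hy => ?_
    refine hcase _ ?_ ?_
    · have h1 : y * v⁻¹ * y⁻¹ ∈ V := conj_mem_of_normalizer (hQV hy) (inv_mem hv)
      have e : v * y * v⁻¹ * y⁻¹ = v * (y * v⁻¹ * y⁻¹) := by group
      rw [e]
      exact mul_mem hv h1
    · exact mul_mem (conj_mem_of_normalizer (le_normalizer_O2 _ (hVR hv)) hy) (inv_mem hy)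

/-- a nontrivial normal subgroup of `S` contains a central involution of `S` -/
theorem exists_central [Finite G] (S : Sylow 2 G) {T : Subgroup G} (hTS : T ≤ (S : Subgroup G))
    (hn : (S : Subgroup G) ≤ normalizer (T : Set G)) (hT : T ≠ ⊥) :
    ∃ z ∈ T, z ∈ (S : Subgroup G) ∧ z * z = 1 ∧ (∀ s ∈ (S : Subgroup G), s * z = z * s) ∧ z ≠ 1 := by
  have : Fact (Nat.Prime 2) := ⟨Nat.prime_two⟩
  have h1 : (T.subgroupOf (S : Subgroup G)).Normal := (normal_subgroupOf_iff_le_normalizer hTS).2 hn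
  have h2 : Group.IsNilpotent (S : Subgroup G) := S.isPGroup'.isNilpotent
  have h3 : T.subgroupOf (S : Subgroup G) ≠ ⊥ := by
    intro h
    rw [subgroupOf_eq_bot] at h
    exact hT (disjoint_self.1 (h.mono_right hTS))
  have h5 := Cfsg.Agent.Lib.NormalAbelian.normal_inf_center_ne_bot _ h3
  set C : Subgroup (S : Subgroup G) := T.subgroupOf (S : Subgroup G) ⊓ center (S : Subgroup G) with hC
  have h6 : Nontrivial C := (Subgroup.nontrivial_iff_ne_bot _).2 h5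
  have h7 : 2 ∣ Nat.card C := by
    obtain ⟨n, hn⟩ := IsPGroup.iff_card.1 (S.isPGroup'.to_subgroup C)
    rw [hn]
    have : n ≠ 0 := by
      rintro rfl
      rw [pow_zero] at hn
      exact absurd (Finite.one_lt_card_iff_nontrivial.2 h6) (by rw [hn]; norm_num)
    exact dvd_pow_self 2 this
  obtain ⟨z, hz⟩ := exists_prime_orderOf_dvd_card' 2 h7
  have hz2 : z * z = 1 := by
    have h3 := pow_orderOf_eq_one z
    rwa [hz, pow_two] at h3
  refine ⟨((z : (S : Subgroup G)) : G), ?_, (z : (S : Subgroup G)).2, ?_, ?_, ?_⟩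
  · exact mem_subgroupOf.1 (mem_inf.1 z.2).1
  · exact congrArg (fun t : C => ((t : (S : Subgroup G)) : G)) hz2
  · intro s hs
    exact congrArg Subtype.val (mem_center_iff.1 (mem_inf.1 z.2).2 ⟨s, hs⟩)
  · intro h
    have : z = 1 := Subtype.ext (Subtype.ext h)
    rw [this, orderOf_one] at hz
    norm_num at hz

theorem line_ne_bot (M : NatMod F V) {w : Fin 2 → F} (hw : w ≠ 0) : M.line w ≠ ⊥ := by
  intro h
  have h1 : M.e w ∈ M.line w := M.e_mem_line.2 ⟨1, (one_smul _ _).symm⟩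
  rw [h, mem_bot, M.e_eq_one] at h1
  exact hw h1

/-- `C_{N(R)}(O₂(N(R))) ≤ O₂(N(R))` for the lines `R` of `V` -/
theorem cenQ_line [Finite G] [Finite F] [CharP F 2] (hG : IsCharacteristicTwoType G) (M : NatMod F V) (S : Sylow 2 G)
    (hS : (S : Subgroup G) ≤ normalizer (V : Set G)) {w : Fin 2 → F} (hw : w ≠ 0) :
    normalizer (M.line w : Set G) ⊓ centralizer (QQ (M.line w) : Set G) ≤ QQ (M.line w) := by
  obtain ⟨S₁, -, hSR⟩ := M.exists_sylow S hS hw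
  have hR2 : IsPGroup 2 (M.line w) := fun v => ⟨1, by
    rw [pow_one, pow_two]; exact Subtype.ext (M.sq (M.line_le w v.2))⟩
  have hRQ : M.line w ≤ QQ (M.line w) :=
    le_O2_of_normal le_normalizer hR2 fun g hg a ha => conj_mem_of_normalizer hg ha
  have hne : ZN.o2 (normalizer (M.line w : Set G)) ≠ ⊥ := by
    intro h
    apply line_ne_bot M hw
    rw [eq_bot_iff]
    exact hRQ.trans_eq h
  exact MinSimple.Basic.char2_of_o2_ne_bot hG S₁ hSR hne

/-- **the entry**: `BTC` from a mutual pair of one type -/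
theorem btc [Finite G] [Finite F] [CharP F 2] (hG : IsCharacteristicTwoType G) (M : NatMod F V) (S : Sylow 2 G)
    (hS : (S : Subgroup G) ≤ normalizer (V : Set G))
    (hZ : ∀ z ∈ (S : Subgroup G), z * z = 1 → (∀ s ∈ (S : Subgroup G), s * z = z * s) → z ∈ V) {g : G}
    (h : NatPair.Mutual V (NatPair.cj g V)) : V ≤ QQ (V ⊓ NatPair.cj g V) ∧ BTC V (pt M) := by
  have hfact : Fact (Nat.Prime 2) := ⟨Nat.prime_two⟩
  obtain ⟨-, w, w', hw, hw', hl, -⟩ := pair M (M.conj g) h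
  have hQ : V ≤ QQ (V ⊓ NatPair.cj g V) := by
    refine le_QQ M S hS h ?_
    rw [hl]
    exact cenQ_line hG M S hS hw.ne
  have hb := bt M S hS h hQ
  have hTS : ∀ T : Subgroup G, IsPGroup 2 T → normalizer (V : Set G) ≤ normalizer (T : Set G) →
      T ≤ (S : Subgroup G) := fun T hT hn => MinPar.le_of_le_normalizer S hT (hS.trans hn)
  refine ⟨hQ, ⟨hb, ?_, ?_, ?_⟩⟩
  · intro T hT _ hn hTV
    by_contra hne
    obtain ⟨z, hzT, hzS, hz2, hzc, hz1⟩ := exists_central S (hTS T hT hn) (hS.trans hn) hne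
    have h1 : z ∈ T ⊓ V := ⟨hzT, hZ z hzS hz2 hzc⟩
    rw [hTV, mem_bot] at h1
    exact hz1 h1
  · intro i T hT _ _ hVT hRT
    by_contra hne
    have hST : (S : Subgroup G) ≤ normalizer (T : Set G) := hS.trans hVT
    have hTN : T ≤ ZN.o2 (normalizer (T : Set G)) :=
      le_O2_of_normal le_normalizer hT fun g hg a ha => conj_mem_of_normalizer hg ha
    have hne2 : ZN.o2 (normalizer (T : Set G)) ≠ ⊥ := fun h0 => hne (le_bot_iff.1 (h0 ▸ hTN))
    have hch := MinSimple.Basic.char2_of_o2_ne_bot hG S hST hne2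
    -- the line `V ∩ V^g`
    obtain ⟨x, hx, hxR⟩ := hb.trans_one i ⟨M.line w, w, hw.ne, rfl⟩
    have hxR' : BTwo.cj x (pt M i) = M.line w := hxR
    have hRT' : normalizer ((V ⊓ NatPair.cj g V : Subgroup G) : Set G) ≤ normalizer (T : Set G) := by
      rw [hl, ← hxR', BTwo.normalizer_cj]
      rw [cj_le_iff]
      intro y hy
      exact mul_mem (mul_mem (hVT hx) (hRT hy)) (inv_mem (hVT hx))
    refine nonlocal M S hS hZ h hVT hRT' (O2_le _) (O2_isPGroup _) (le_normalizer_O2 _) ?_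
    intro y hy hyc
    exact hch (mem_inf.2 ⟨hy, mem_centralizer_iff.2 fun q hq => hyc q hq⟩)
  · rintro ⟨_, u, hu, rfl⟩
    exact cenQ_line hG M S hS hu

end Cfsg.Agent.Omega.IIa4

end

-- merged: Cfsg.Agent.Mrg.Omega.BTwo.Semi
section

section


/-!
# SQ3, `b = 2`, `q ≥ 4`: #11043 (8.5), (8.6) and the conclusion `O₂(N(R)) = W_R` is semi-extraspecial
-/

set_option autoImplicit false
set_option linter.unusedSectionVars false

namespace Cfsg.Agent.Omega.BTwo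

open Subgroup
open scoped commutatorElement

universe u v w

variable {G : Type u} [Group G] {ι : Type w}

namespace Coord

variable {V : Subgroup G} {R : ι → Subgroup G} {i j : ι} {F : Type v} [Field F]
  {v : F → F → G} {w1 w2 : F → G} {M : Type u} [AddCommGroup M] [Module F M] {p1 p2 : G → M}

section

variable (c : Coord V R i j v w1 w2) (b : BT V R) (y : YMod (DD V R) (UU V R i) (UU V R j) w1 w2 M p1 p2)
include c b

/-- `U j = [U j, h(a)] D` -/
theorem exists_hh [Finite F] [CharP F 2] {a : F} (ha : a ≠ 0) (ha1 : a ≠ 1) {x : G} (hx : x ∈ UU V R j) :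
    ∃ x' ∈ UU V R j, ∃ d ∈ DD V R, x = x' * (hh w1 w2 a * x'⁻¹ * (hh w1 w2 a)⁻¹) * d := by
  obtain ⟨M, i1, i2, p1, p2, y⟩ := c.exists_yMod b
  have hne : (1 : F) - a⁻¹ ≠ 0 := by
    intro h
    apply ha1
    have h1 : a⁻¹ = 1 := (sub_eq_zero.1 h).symm
    rw [← inv_inv a, h1, inv_one]
  obtain ⟨x', hx', e⟩ := y.surj2 ((1 - a⁻¹)⁻¹ • p2 x)
  have hx'' := inv_mem hx'
  have h1 := YMod.hh_mem2 b c ha hx''
  have h2 : p2 (x' * (hh w1 w2 a * x'⁻¹ * (hh w1 w2 a)⁻¹)) = p2 x := by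
    rw [y.mul2 _ hx' _ h1, y.hh_p2 b c ha hx'', y.p2_inv hx', smul_neg, ← sub_eq_add_neg]
    have h3 : p2 x' - a⁻¹ • p2 x' = (1 - a⁻¹) • p2 x' := by rw [sub_smul, one_smul]
    rw [h3, e, smul_smul, mul_inv_cancel₀ hne, one_smul]
  refine ⟨x', hx', (x' * (hh w1 w2 a * x'⁻¹ * (hh w1 w2 a)⁻¹))⁻¹ * x, ?_, by group⟩
  refine (y.ker2 _ (mul_mem (inv_mem (mul_mem hx' h1)) hx)).1 ?_
  rw [y.mul2 _ (inv_mem (mul_mem hx' h1)) _ hx, y.p2_inv (mul_mem hx' h1), h2, neg_add_cancel]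

end

/-! ### (8.5) -/

omit [Field F] in
theorem _root_.Cfsg.Agent.Omega.BTwo.comm_central {p q x y : G} (h1 : p * x = x * p) (h2 : p * y = y * p)
    (h3 : q * x = x * q) (h4 : q * y = y * q) (h5 : p * q = q * p) :
    (p * x) * (q * y) * (p * x)⁻¹ * (q * y)⁻¹ = x * y * x⁻¹ * y⁻¹ := by
  have k1 : Commute (p * q) x := (show Commute p x from h1).mul_left h3
  have k2 : Commute (p * q) y := (show Commute p y from h2).mul_left h4
  have e1 : (p * x) * (q * y) = (p * q) * (x * y) := by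
    calc (p * x) * (q * y) = p * (x * q) * y := by group
      _ = (p * q) * (x * y) := by rw [← h3]; group
  have e2 : (q * y) * (p * x) = (p * q) * (y * x) := by
    calc (q * y) * (p * x) = q * (y * p) * x := by group
      _ = (q * p) * (y * x) := by rw [← h2]; group
      _ = _ := by rw [h5]
  have k3 : Commute (p * q) (x * y * (y * x)⁻¹) := (k1.mul_right k2).mul_right (k2.mul_right k1).inv_right
  calc (p * x) * (q * y) * (p * x)⁻¹ * (q * y)⁻¹ = ((p * x) * (q * y)) * ((q * y) * (p * x))⁻¹ := by group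
    _ = (p * q) * (x * y * (y * x)⁻¹) * (p * q)⁻¹ := by rw [e1, e2]; group
    _ = x * y * (y * x)⁻¹ := by rw [k3.eq]; group
    _ = x * y * x⁻¹ * y⁻¹ := by group

omit [Field F] in
theorem _root_.Cfsg.Agent.Omega.BTwo.comm_two {x x0 w w0 r1 r2 k : G} (e1 : w0 * x * w0⁻¹ * x⁻¹ = r1)
    (e2 : w * x0 * w⁻¹ * x0⁻¹ = r2) (e3 : w0 * w * w0⁻¹ * w⁻¹ = k) (hx : x0 * x = x * x0)
    (h1 : x0 * r1 = r1 * x0) (h2 : x * r2 = r2 * x) (h3 : x0 * k = k * x0) (h4 : x * k = k * x)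
    (h5 : k * r2 = r2 * k) (h : (x0 * w0) * (x * w) * (x0 * w0)⁻¹ * (x * w)⁻¹ = k) : r1 = r2 := by
  have f1 : w0 * x = r1 * x * w0 := by rw [← e1]; group
  have f2 : w * x0 = r2 * x0 * w := by rw [← e2]; group
  have g1 : (x0 * w0) * (x * w) = r1 * (x0 * x) * (w0 * w) := by
    calc (x0 * w0) * (x * w) = x0 * (w0 * x) * w := by group
      _ = (x0 * r1) * x * w0 * w := by rw [f1]; group
      _ = r1 * (x0 * x) * (w0 * w) := by rw [h1]; group
  have g2 : (x * w) * (x0 * w0) = r2 * (x0 * x) * (w * w0) := by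
    calc (x * w) * (x0 * w0) = x * (w * x0) * w0 := by group
      _ = (x * r2) * x0 * w * w0 := by rw [f2]; group
      _ = r2 * (x * x0) * (w * w0) := by rw [h2]; group
      _ = _ := by rw [hx]
  have g3 : (x0 * w0) * (x * w) * (x0 * w0)⁻¹ * (x * w)⁻¹ = r1 * k * r2⁻¹ := by
    have k1 : (x0 * x) * k = k * (x0 * x) := by rw [mul_assoc, h4, ← mul_assoc, h3, mul_assoc]
    calc (x0 * w0) * (x * w) * (x0 * w0)⁻¹ * (x * w)⁻¹
        = ((x0 * w0) * (x * w)) * ((x * w) * (x0 * w0))⁻¹ := by group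
      _ = r1 * ((x0 * x) * (w0 * w * w0⁻¹ * w⁻¹)) * (x0 * x)⁻¹ * r2⁻¹ := by rw [g1, g2]; group
      _ = r1 * k * r2⁻¹ := by rw [e3, k1]; group
  rw [h] at g3
  calc r1 = (r1 * k * r2⁻¹) * (k * r2⁻¹)⁻¹ := by group
    _ = k * (k * r2⁻¹)⁻¹ := by rw [← g3]
    _ = (k * r2) * k⁻¹ := by group
    _ = r2 := by rw [h5]; group

section beta

variable (c : Coord V R i j v w1 w2) (b : BTC V R)

/-- `z` acts on `W i / (V Z i)...` with parameter `β` -/
def Bt (V : Subgroup G) (R : ι → Subgroup G) (i : ι) (v : F → F → G) (z : G) (β : F) : Prop :=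
  ∀ w ∈ WW V (R i), ∀ a : F, (∀ b c, w * v b c * w⁻¹ = v (b + a * c) c) →
    ∃ b, (v b (a * β))⁻¹ * (z * w * z⁻¹ * w⁻¹) ∈ ZW V R i

include b in
/-- `[z, w] ∈ V Z i` -/
theorem _root_.Cfsg.Agent.Omega.BTwo.BTC.exists_V {z w : G} (hz : z ∈ centralizer (V : Set G))
    (hU : ∀ u ∈ UU V R i, z * u = u * z) (hw : w ∈ WW V (R i)) :
    ∃ x ∈ V, x⁻¹ * (z * w * z⁻¹ * w⁻¹) ∈ ZW V R i := by
  have hzw : z * w * z⁻¹ ∈ WW V (R i) := conj_mem_of_normalizer (b.cen_le_NW i hz) hw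
  have hm : z * w * z⁻¹ * w⁻¹ ∈ WW V (R i) := mul_mem hzw (inv_mem hw)
  obtain ⟨x, hx, h1⟩ := b.cen_U (b.W_le_Q i hm) (fun u hu => by
    -- `[z w z⁻¹, u] = [w, u]`
    have hr := b.WU hw hu
    set r := w * u * w⁻¹ * u⁻¹ with hrdef
    have h1 : z * r * z⁻¹ = r := by
      rw [← mem_centralizer_iff.1 hz r (b.R_le i hr)]; group
    have h2 : (z * w * z⁻¹) * u * (z * w * z⁻¹)⁻¹ = r * u := by
      calc (z * w * z⁻¹) * u * (z * w * z⁻¹)⁻¹ = z * w * (z⁻¹ * (u * z)) * w⁻¹ * z⁻¹ := by group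
        _ = z * (w * u * w⁻¹) * z⁻¹ := by rw [← hU u hu]; group
        _ = (z * r * z⁻¹) * (z * u * z⁻¹) := by rw [hrdef]; group
        _ = r * u := by rw [h1, hU u hu]; group
    have h3 : w⁻¹ * u * w = r⁻¹ * u := by
      have h4 := b.QR i w (b.W_le_Q i hw) _ hr
      have h5 : w⁻¹ * r * w = r := by
        calc w⁻¹ * r * w = w⁻¹ * (r * w) := by group
          _ = r := by rw [← h4]; group
      have h6 : w * u * w⁻¹ = r * u := by rw [hrdef]; group
      calc w⁻¹ * u * w = (w⁻¹ * r * w)⁻¹ * (w⁻¹ * (r * u) * w) := by group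
        _ = r⁻¹ * u := by rw [h5, ← h6]; group
    have h7 : (z * w * z⁻¹) * r⁻¹ = r⁻¹ * (z * w * z⁻¹) := b.QR i _ (b.W_le_Q i hzw) _ (inv_mem hr)
    have h8 : (z * w * z⁻¹ * w⁻¹) * u * (z * w * z⁻¹ * w⁻¹)⁻¹ = u := by
      calc (z * w * z⁻¹ * w⁻¹) * u * (z * w * z⁻¹ * w⁻¹)⁻¹
          = (z * w * z⁻¹) * (w⁻¹ * u * w) * (z * w * z⁻¹)⁻¹ := by group
        _ = ((z * w * z⁻¹) * r⁻¹) * u * (z * w * z⁻¹)⁻¹ := by rw [h3]; group
        _ = r⁻¹ * ((z * w * z⁻¹) * u * (z * w * z⁻¹)⁻¹) := by rw [h7]; group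
        _ = u := by rw [h2]; group
    rwa [mul_inv_eq_iff_eq_mul] at h8)
  have h2 : x⁻¹ * (z * w * z⁻¹ * w⁻¹) ∈ WW V (R i) := mul_mem (inv_mem (V_le_WW V (R i) hx)) hm
  exact ⟨x, hx, h2, h1⟩

include c b

/-- existence of the parameter -/
theorem exists_Bt {z : G} (hz : z ∈ centralizer (V : Set G)) (hU : ∀ u ∈ UU V R i, z * u = u * z) :
    ∃ β : F, Bt V R i v z β := by
  obtain ⟨x0, hx0, h0⟩ := b.exists_V hz hU (c.w1_mem 1)
  obtain ⟨b0, c0, rfl⟩ := (c.mem_V x0).1 hx0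
  refine ⟨c0, fun w hw a ha => ?_⟩
  obtain ⟨x, hx, h1⟩ := b.exists_V hz hU hw
  obtain ⟨b1, c1, rfl⟩ := (c.mem_V x).1 hx
  refine ⟨b1, ?_⟩
  suffices h : c1 = a * c0 by rwa [← h]
  -- `z [w0, w] z⁻¹ = [w0, w]`
  set w0 := w1 1 with hw0
  have hw0m : w0 ∈ WW V (R i) := c.w1_mem 1
  set ζ0 := (v b0 c0)⁻¹ * (z * w0 * z⁻¹ * w0⁻¹) with hζ0
  set ζ := (v b1 c1)⁻¹ * (z * w * z⁻¹ * w⁻¹) with hζ
  have e0 : z * w0 * z⁻¹ = ζ0 * (v b0 c0 * w0) := by
    have h2 := comm_ZW h0 (V_le_WW V (R i) hx0)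
    rw [← mul_assoc, h2, hζ0]; group
  have e1 : z * w * z⁻¹ = ζ * (v b1 c1 * w) := by
    have h2 := comm_ZW h1 (V_le_WW V (R i) hx)
    rw [← mul_assoc, h2, hζ]; group
  have hX0 : v b0 c0 * w0 ∈ WW V (R i) := mul_mem (V_le_WW V (R i) hx0) hw0m
  have hX1 : v b1 c1 * w ∈ WW V (R i) := mul_mem (V_le_WW V (R i) hx) hw
  have hr := b.WW_comm i hw0m hw
  have e2 : (v b0 c0 * w0) * (v b1 c1 * w) * (v b0 c0 * w0)⁻¹ * (v b1 c1 * w)⁻¹ = w0 * w * w0⁻¹ * w⁻¹ := by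
    have h3 : z * (w0 * w * w0⁻¹ * w⁻¹) * z⁻¹ = w0 * w * w0⁻¹ * w⁻¹ := by
      rw [← mem_centralizer_iff.1 hz _ (b.R_le i hr)]; group
    have h4 := comm_ZW h0 hX0
    have h6 := comm_ZW h0 (ZW_le_W i h1)
    rw [← h3]
    calc (v b0 c0 * w0) * (v b1 c1 * w) * (v b0 c0 * w0)⁻¹ * (v b1 c1 * w)⁻¹
        = (ζ0 * (v b0 c0 * w0)) * (ζ * (v b1 c1 * w)) * (ζ0 * (v b0 c0 * w0))⁻¹ * (ζ * (v b1 c1 * w))⁻¹ :=
          (comm_central h4 (comm_ZW h0 hX1) (comm_ZW h1 hX0) (comm_ZW h1 hX1) h6).symm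
      _ = (z * w0 * z⁻¹) * (z * w * z⁻¹) * (z * w0 * z⁻¹)⁻¹ * (z * w * z⁻¹)⁻¹ := by rw [e0, e1]
      _ = z * (w0 * w * w0⁻¹ * w⁻¹) * z⁻¹ := by group
  have hR : ∀ a : F, v a 0 ∈ R i := fun a => (c.mem_R1 _).2 ⟨a, rfl⟩
  have f1 : w0 * v b1 c1 * w0⁻¹ * (v b1 c1)⁻¹ = v c1 0 := by
    have h3 := c.w1_act 1 b1 c1
    have h4 := c.v_add c1 0 b1 c1
    rw [← hw0, one_mul] at h3
    rw [zero_add, add_comm c1 b1] at h4
    rw [h3, h4]; group
  have f2 : w * v b0 c0 * w⁻¹ * (v b0 c0)⁻¹ = v (a * c0) 0 := by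
    have h3 := ha b0 c0
    have h4 := c.v_add (a * c0) 0 b0 c0
    rw [zero_add, add_comm (a * c0) b0] at h4
    rw [h3, h4]; group
  have h3 := comm_two f1 f2 rfl (b.V_comm _ hx0 _ hx) (b.V_comm _ hx0 _ (b.R_le i (hR _)))
    (b.V_comm _ hx _ (b.R_le i (hR _))) (b.V_comm _ hx0 _ (b.R_le i hr)) (b.V_comm _ hx _ (b.R_le i hr))
    (b.V_comm _ (b.R_le i hr) _ (b.R_le i (hR _))) e2
  exact (c.v_inj h3).1

/-- the parameter is additive -/
theorem Bt.mul [Finite G] {z z' : G} {β β' : F} (hz : z ∈ ZW V R j) (hz' : z' ∈ ZW V R j) (h : Bt V R i v z β)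
    (h' : Bt V R i v z' β') : Bt V R i v (z * z') (β + β') := by
  intro w hw a ha
  obtain ⟨b1, h1⟩ := h w hw a ha
  obtain ⟨b2, h2⟩ := h' w hw a ha
  refine ⟨b2 + b1, ?_⟩
  set ζ := (v b1 (a * β))⁻¹ * (z * w * z⁻¹ * w⁻¹) with hζ
  set ζ' := (v b2 (a * β'))⁻¹ * (z' * w * z'⁻¹ * w⁻¹) with hζ'
  have hzV := C_le_cen j hz.2
  have k1 : z * v b2 (a * β') = v b2 (a * β') * z := (mem_centralizer_iff.1 hzV _ (c.v_mem _ _)).symm
  have k2 : z * ζ' = ζ' * z := b.cen_comm (Ne.symm c.ne) hz.2 h2.2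
  have k3 := comm_ZW h2 (V_le_WW V (R i) (c.v_mem b1 (a * β)))
  have e1 : v (b2 + b1) (a * (β + β')) = v b2 (a * β') * v b1 (a * β) := by
    rw [← c.v_add, mul_add, add_comm (a * β)]
  have e2 : z * z' * w * (z * z')⁻¹ * w⁻¹ = v b2 (a * β') * v b1 (a * β) * (ζ' * ζ) := by
    calc z * z' * w * (z * z')⁻¹ * w⁻¹
        = z * (v b2 (a * β') * ζ') * z⁻¹ * (v b1 (a * β) * ζ) := by rw [hζ, hζ']; group
      _ = (z * v b2 (a * β')) * ζ' * z⁻¹ * (v b1 (a * β) * ζ) := by group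
      _ = v b2 (a * β') * (z * ζ') * z⁻¹ * (v b1 (a * β) * ζ) := by rw [k1]; group
      _ = v b2 (a * β') * (ζ' * v b1 (a * β)) * ζ := by rw [k2]; group
      _ = _ := by rw [k3]; group
  rw [e1, e2]
  have e3 : (v b2 (a * β') * v b1 (a * β))⁻¹ * (v b2 (a * β') * v b1 (a * β) * (ζ' * ζ)) = ζ' * ζ := by group
  rw [e3]
  exact mul_mem h2 h1

/-- the parameter is unique -/
theorem Bt.unique {z : G} {β β' : F} (h : Bt V R i v z β) (h' : Bt V R i v z β') : β = β' := by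
  obtain ⟨b1, h1⟩ := h (w1 1) (c.w1_mem 1) 1 (c.w1_act 1)
  obtain ⟨b2, h2⟩ := h' (w1 1) (c.w1_mem 1) 1 (c.w1_act 1)
  rw [one_mul] at h1 h2
  have h3 : (v b1 β)⁻¹ * v b2 β' ∈ ZW V R i := by
    have e : (v b1 β)⁻¹ * v b2 β' = ((v b1 β)⁻¹ * (z * w1 1 * z⁻¹ * (w1 1)⁻¹)) *
      ((v b2 β')⁻¹ * (z * w1 1 * z⁻¹ * (w1 1)⁻¹))⁻¹ := by group
    rw [e]
    exact mul_mem h1 (inv_mem h2)
  have h4 := comm_ZW h3 (c.w1_mem 1)
  have h5 : v b1 β * v (b2 - b1) (β' - β) = v b2 β' := by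
    rw [← c.v_add, add_sub_cancel, add_sub_cancel]
  have h6 : (v b1 β)⁻¹ * v b2 β' = v (b2 - b1) (β' - β) := by rw [← h5]; group
  rw [h6] at h4
  have h7 := c.w1_act 1 (b2 - b1) (β' - β)
  rw [← h4, mul_inv_cancel_right, one_mul] at h7
  have h8 := (c.v_inj h7).1
  exact (sub_eq_zero.1 (left_eq_add.1 h8)).symm

/-- the torus -/
theorem Bt.conj [CharP F 2] {z : G} {β : F} (h : Bt V R i v z β) {s : F} (hs : s ≠ 0) :
    Bt V R i v (hh w1 w2 s * z * (hh w1 w2 s)⁻¹) (s⁻¹ ^ 3 * β) := by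
  intro w hw a ha
  set t := hh w1 w2 s with ht
  have htN : t ∈ normalizer (R i : Set G) := cj_eq_self_iff.1 (c.hh_R1 b.toBT hs)
  have hwt : t⁻¹ * w * t ∈ WW V (R i) := conj_inv_mem_of_normalizer (normalizer_le_WW V (R i) htN) hw
  obtain ⟨b1, h1⟩ := h _ hwt (s⁻¹ ^ 2 * a) (by
    intro d e
    have e1 : t⁻¹ * w * t * v d e * (t⁻¹ * w * t)⁻¹ = t⁻¹ * (w * (t * v d e * t⁻¹) * w⁻¹) * t := by group
    rw [e1, c.hh_act hs, ha, c.hh_act_inv hs]
    congr 1
    · field_simp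
    · field_simp)
  refine ⟨s * b1, ?_⟩
  have h2 := conj_ZW htN h1
  have e2 : t * ((v b1 (s⁻¹ ^ 2 * a * β))⁻¹ * (z * (t⁻¹ * w * t) * z⁻¹ * (t⁻¹ * w * t)⁻¹)) * t⁻¹ =
      (t * v b1 (s⁻¹ ^ 2 * a * β) * t⁻¹)⁻¹ * ((t * z * t⁻¹) * w * (t * z * t⁻¹)⁻¹ * w⁻¹) := by group
  rw [e2, c.hh_act hs] at h2
  have e3 : s⁻¹ * (s⁻¹ ^ 2 * a * β) = a * (s⁻¹ ^ 3 * β) := by ring
  rwa [e3] at h2

/-- elements of `R j` -/
theorem Bt.of_mem {z : G} (hz : z ∈ R j) : Bt V R i v z 0 := by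
  intro w hw a ha
  obtain ⟨e, rfl⟩ := (c.mem_R2 z).1 hz
  refine ⟨-(a * e), ?_⟩
  have h1 := ha 0 e
  rw [zero_add] at h1
  have h2 : v 0 e * w * (v 0 e)⁻¹ * w⁻¹ = v (-(a * e)) 0 := by
    have h3 := c.v_add (-(a * e)) 0 (a * e) e
    rw [neg_add_cancel, zero_add] at h3
    calc v 0 e * w * (v 0 e)⁻¹ * w⁻¹ = v 0 e * (w * v 0 e * w⁻¹)⁻¹ := by group
      _ = v (-(a * e)) 0 := by rw [h1, h3]; group
  rw [h2, mul_zero, inv_mul_cancel]
  exact one_mem _

/-- **(8.5)** `β = 0` -/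
theorem Bt.eq_zero [Finite G] [Finite F] [CharP F 2] (hF : ∃ a : F, a ≠ 0 ∧ a ≠ 1) {z : G} {β : F}
    (hz : z ∈ ZW V R j) (h : Bt V R i v z β) : β = 0 := by
  obtain ⟨x, hx0, hx1⟩ := hF
  obtain ⟨M, i1, i2, p1, p2, y⟩ := c.exists_yMod b.toBT
  have hx2 : x + 1 ≠ 0 := by
    intro h1
    apply hx1
    rw [CharTwo.add_eq_zero] at h1
    exact h1
  have hzU := ZW_le_U (V := V) (R := R) j hz
  have hN : ∀ s : F, s ≠ 0 → hh w1 w2 s ∈ normalizer (R j : Set G) :=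
    fun s hs => cj_eq_self_iff.1 (c.hh_R2 b.toBT hs)
  -- `z₁ = z^{h(x⁻¹)}`, `z₂ = z^{h((x+1)⁻¹)}`
  set z1 := hh w1 w2 x⁻¹ * z * (hh w1 w2 x⁻¹)⁻¹ with hz1
  set z2 := hh w1 w2 (x + 1)⁻¹ * z * (hh w1 w2 (x + 1)⁻¹)⁻¹ with hz2
  have hz1m : z1 ∈ ZW V R j := conj_ZW (hN _ (inv_ne_zero hx0)) hz
  have hz2m : z2 ∈ ZW V R j := conj_ZW (hN _ (inv_ne_zero hx2)) hz
  have hb1 := Bt.conj c b h (inv_ne_zero hx0)
  have hb2 := Bt.conj c b h (inv_ne_zero hx2)
  rw [← hz1, inv_inv] at hb1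
  rw [← hz2, inv_inv] at hb2
  have hp1 : p2 z1 = x • p2 z := by
    rw [hz1, y.hh_p2 b.toBT c (inv_ne_zero hx0) hzU, inv_inv]
  have hp2 : p2 z2 = (x + 1) • p2 z := by
    rw [hz2, y.hh_p2 b.toBT c (inv_ne_zero hx2) hzU, inv_inv]
  have hd : z1 * z * z2⁻¹ ∈ R j := by
    have hm : z1 * z * z2⁻¹ ∈ ZW V R j := mul_mem (mul_mem hz1m hz) (inv_mem hz2m)
    refine b.cen_DW ((y.ker2 _ (ZW_le_U j hm)).1 ?_) hm.2
    rw [y.mul2 _ (ZW_le_U j (mul_mem hz1m hz)) _ (ZW_le_U j (inv_mem hz2m)), y.mul2 _ (ZW_le_U j hz1m) _ hzU,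
      y.p2_inv (ZW_le_U j hz2m), hp1, hp2, add_smul, one_smul, add_neg_cancel]
  have h1 := Bt.mul c b hz1m hz hb1 h
  have h2 := Bt.mul c b (b.R_le_ZW j hd) hz2m (Bt.of_mem c b hd) hb2
  have e : z1 * z * z2⁻¹ * z2 = z1 * z := by group
  rw [e] at h2
  have h3 := Bt.unique c b h1 h2
  have h4 : (x * (x + 1)) * β = 0 := by
    have h5 : (3 : F) = 1 := by
      have : (2 : F) = 0 := CharTwo.two_eq_zero
      linear_combination this
    have h6 : (3 * x ^ 2 + 3 * x) * β = 0 := by linear_combination -h3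
    rw [h5, one_mul, one_mul] at h6
    linear_combination h6
  rcases mul_eq_zero.1 h4 with h5 | h5
  · rcases mul_eq_zero.1 h5 with h6 | h6
    · exact absurd h6 hx0
    · exact absurd h6 hx2
  · exact h5

/-- **(8.5)** `[Z j, U i] = 1 ⟹ Z j = R j` -/
theorem ZW_eq [Finite G] [Finite F] [CharP F 2] (hF : ∃ a : F, a ≠ 0 ∧ a ≠ 1)
    (hU : ∀ z ∈ ZW V R j, ∀ u ∈ UU V R i, z * u = u * z) : ZW V R j = R j := by
  refine b.ZW_eq c.ne fun z hz w hw => ?_
  obtain ⟨β, hβ⟩ := c.exists_Bt b (C_le_cen j hz.2) (hU z hz)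
  have h0 := Bt.eq_zero c b hF hz hβ
  obtain ⟨a, ha⟩ := c.W1_act w hw
  obtain ⟨b1, h1⟩ := hβ w hw a ha
  rw [h0, mul_zero] at h1
  have h2 : v b1 0 ∈ ZW V R i := b.R_le_ZW i ((c.mem_R1 _).2 ⟨b1, rfl⟩)
  have e : z * w * z⁻¹ * w⁻¹ = v b1 0 * ((v b1 0)⁻¹ * (z * w * z⁻¹ * w⁻¹)) := by group
  rw [e]
  exact mul_mem h2 h1

/-! ### the conclusion -/

/-- **(8.6)** -/
theorem comm_ZU [Finite G] [Finite F] [CharP F 2] (hF : ∃ a : F, a ≠ 0 ∧ a ≠ 1)
    (perf : UU V R j ≤ ⁅(⨆ h : normalizer (R i : Set G), Omega.BTwo.cj (h : G) (UU V R j)),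
      (⨆ h : normalizer (R i : Set G), Omega.BTwo.cj (h : G) (UU V R j))⁆ ⊔ QQ (R i)) {z u : G}
    (hz : z ∈ ZW V R i) (hu : u ∈ UU V R j) : z * u = u * z := by
  obtain ⟨a, ha, ha1⟩ := hF
  refine b.comm_ZU c.ne (t := hh w1 w2 a) (c.hh_mem_X b.toBT a) (cj_eq_self_iff.1 (c.hh_R1 b.toBT ha))
    (fun u hu => c.exists_hh b.toBT ha ha1 hu) (fun x hx => ?_) perf hz hu
  obtain ⟨w, hw, he⟩ := b.exists_eps_W hx
  refine ⟨w, hw, fun t ht => ?_⟩
  have h1 := inv_mem (b.CX ht he)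
  have e : (t * (x * w) * t⁻¹ * (x * w)⁻¹)⁻¹ = (x * w) * t * (x * w)⁻¹ * t⁻¹ := by group
  rwa [e] at h1

/-- `Z(W j) = R j` -/
theorem ZW_eq_R [Finite G] [Finite F] [CharP F 2] (hF : ∃ a : F, a ≠ 0 ∧ a ≠ 1)
    (perf : UU V R j ≤ ⁅(⨆ h : normalizer (R i : Set G), Omega.BTwo.cj (h : G) (UU V R j)),
      (⨆ h : normalizer (R i : Set G), Omega.BTwo.cj (h : G) (UU V R j))⁆ ⊔ QQ (R i)) : ZW V R j = R j := by
  refine c.ZW_eq b hF fun z hz u hu => ?_
  set n := nn w1 w2 1 with hn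
  have h2 : Omega.BTwo.cj n (R j) = R i := c.nn_R2 b.toBT one_ne_zero
  have hnV : n ∈ normalizer (V : Set G) := b.X_le_NV (c.nn_mem_X b.toBT 1)
  have h3 : n * u * n⁻¹ ∈ UU V R j := by
    rw [← b.cj_UU hnV (c.nn_R1 b.toBT one_ne_zero)]
    exact conj_mem_cj hu
  have h4 : n * z * n⁻¹ ∈ ZW V R i := by
    have e := b.cj_WW h2
    refine ⟨?_, ?_⟩
    · rw [← e]; exact conj_mem_cj hz.1
    · have h5 : n * z * n⁻¹ ∈ Omega.BTwo.cj n (centralizer (WW V (R j) : Set G)) := conj_mem_cj hz.2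
      rwa [← centralizer_cj, e] at h5
  have h5 := c.comm_ZU b hF perf h4 h3
  calc z * u = n⁻¹ * ((n * z * n⁻¹) * (n * u * n⁻¹)) * n := by group
    _ = u * z := by rw [h5]; group

/-- **#11043, `q ≥ 4`, the end**: `C(W k) = R k` and `O₂(N(R k)) = W k` -/
theorem semi [Finite G] [Finite F] [CharP F 2] (hF : ∃ a : F, a ≠ 0 ∧ a ≠ 1)
    (perf : UU V R j ≤ ⁅(⨆ h : normalizer (R i : Set G), Omega.BTwo.cj (h : G) (UU V R j)),
      (⨆ h : normalizer (R i : Set G), Omega.BTwo.cj (h : G) (UU V R j))⁆ ⊔ QQ (R i)) (k : ι) :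
    centralizer (WW V (R k) : Set G) = R k ∧ QQ (R k) = WW V (R k) := by
  have h1 : centralizer (WW V (R j) : Set G) = R j := by
    refine le_antisymm (fun x hx => ?_) (b.R_cen_W j)
    rw [← c.ZW_eq_R b hF perf]
    exact ⟨b.cen_W_le_W_of_coord c.symm hF hx, hx⟩
  have h2 : centralizer (WW V (R k) : Set G) = R k := by
    obtain ⟨x, -, hx⟩ := b.trans_one j k
    rw [← b.cj_WW hx, centralizer_cj, h1, hx]
  exact ⟨h2, b.Q_eq_W k h2.le⟩

end beta

end Coord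

end Cfsg.Agent.Omega.BTwo

end

section


/-!
# THEOREM F6 (bb OMEGA 13299): `C_G(z) ≤ N_G(R)` for `z ∈ R`, field automorphisms in `S` allowed

* `Cz.scalar`: an element of `N(V)` which normalises `R i`, `R j` and is trivial on `U j / D` acts on `R i` as a scalar.
* `Cz.O_le_cen`: a 2-subgroup `O` of `N(V) ∩ N(R i)` with `[O, C(R i)] ≤ Q i` centralises `R i`.
* `Cz.cen_V`: a 2-element of `N(V)` which normalises `R i`, `R j` and centralises `R i` centralises `V`.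
* `Cz.main`: `K = C_G(z)`, `O = O₂(K)`, `C_K(O) ≤ O` give `O ≤ Q i`, `Z(O) = R i` and `K ≤ N(R i)`.
-/

set_option autoImplicit false

namespace Cfsg.Agent.Omega.BTwo.Cz

open Subgroup

universe u v w

variable {G : Type u} [Group G] {ι : Type w} {V : Subgroup G} {R : ι → Subgroup G} {i j : ι}

section scalar

variable {F : Type v} [Field F] {v : F → F → G} {w1 w2 : F → G}

/-- the action of an element of `N(V) ∩ N(R i) ∩ N(R j)` on `V` and `W i` -/
theorem semi (c : Coord V R i j v w1 w2) (b : BT V R) {x : G} (hi : cj x (R i) = R i)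
    (hj : cj x (R j) = R j) : ∃ τ ρ σ : F → F, (∀ p, v (τ p) 0 = x * v p 0 * x⁻¹) ∧
      (∀ p, v 0 (ρ p) = x * v 0 p * x⁻¹) ∧
      (∀ s p q, (x * w1 s * x⁻¹) * v p q * (x * w1 s * x⁻¹)⁻¹ = v (p + σ s * q) q) ∧
      ∀ s q, τ (s * q) = σ s * ρ q := by
  have hR1 : ∀ p, ∃ q, v q 0 = x * v p 0 * x⁻¹ := by
    intro p
    rw [← c.mem_R1, ← hi]
    exact conj_mem_cj ((c.mem_R1 _).2 ⟨p, rfl⟩)
  have hR2 : ∀ p, ∃ q, v 0 q = x * v 0 p * x⁻¹ := by
    intro p
    rw [← c.mem_R2, ← hj]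
    exact conj_mem_cj ((c.mem_R2 _).2 ⟨p, rfl⟩)
  have hW : ∀ s, ∃ t, ∀ p q, (x * w1 s * x⁻¹) * v p q * (x * w1 s * x⁻¹)⁻¹ = v (p + t * q) q := by
    intro s
    apply c.W1_act
    rw [← b.cj_WW hi]
    exact conj_mem_cj (c.w1_mem s)
  choose τ hτ using hR1
  choose ρ hρ using hR2
  choose σ hσ using hW
  refine ⟨τ, ρ, σ, hτ, hρ, hσ, fun s q => ?_⟩
  have e1 : x * (w1 s * v 0 q * (w1 s)⁻¹) * x⁻¹ =
      (x * w1 s * x⁻¹) * (x * v 0 q * x⁻¹) * (x * w1 s * x⁻¹)⁻¹ := by group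
  rw [c.w1_act, ← hρ q, hσ] at e1
  have e2 : v (0 + s * q) q = v (s * q) 0 * v 0 q := by
    rw [← c.v_add, zero_add, add_zero, zero_add]
  rw [e2] at e1
  have e3 : x * (v (s * q) 0 * v 0 q) * x⁻¹ = (x * v (s * q) 0 * x⁻¹) * (x * v 0 q * x⁻¹) := by group
  rw [e3, ← hτ, ← hρ, ← c.v_add, add_zero, zero_add, zero_add] at e1
  exact (c.v_inj e1).1

/-- an element of `N(V)` which normalises `R i`, `R j` and is trivial on `U j / D` acts on `R i` as a scalar -/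
theorem scalar [Finite F] [CharP F 2] (c : Coord V R i j v w1 w2) (b : BT V R) (hU : ¬ UU V R j ≤ DD V R)
    {x : G} (hx : x ∈ normalizer (V : Set G)) (hi : cj x (R i) = R i) (hj : cj x (R j) = R j)
    (ht : ∀ u ∈ UU V R j, x * u * x⁻¹ * u⁻¹ ∈ DD V R) :
    ∃ κ : F, ∀ p, x * v p 0 * x⁻¹ = v (κ * p) 0 := by
  obtain ⟨M, _, _, p1, p2, ym⟩ := c.exists_yMod b
  obtain ⟨τ, ρ, σ, hτ, hρ, hσ, hrel⟩ := semi c b hi hj
  -- an element of `U j` outside `D`
  obtain ⟨u0, hu0, hu0'⟩ := SetLike.not_le_iff_exists.1 hU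
  have hm0 : p2 u0 ≠ 0 := fun h => hu0' ((ym.ker2 u0 hu0).1 h)
  set m0 := p2 u0 with hm0def
  have hxi : ∀ u ∈ UU V R i, x * u * x⁻¹ ∈ UU V R i := fun u hu => by
    rw [← b.cj_UU hx hi]; exact conj_mem_cj hu
  have hxj : ∀ u ∈ UU V R j, x * u * x⁻¹ ∈ UU V R j := fun u hu => by
    rw [← b.cj_UU hx hj]; exact conj_mem_cj hu
  have hp2 : ∀ u ∈ UU V R j, p2 (x * u * x⁻¹) = p2 u := by
    intro u hu
    have e : x * u * x⁻¹ = (x * u * x⁻¹ * u⁻¹) * u := by group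
    rw [e, ym.mul2 _ (b.D_le_U j (ht u hu)) _ hu, (ym.ker2 _ (b.D_le_U j (ht u hu))).2 (ht u hu), zero_add]
  -- `x` acts on `U i / D`
  have hp1 : ∀ m ∈ UU V R i, ∀ m' ∈ UU V R i, p1 m = p1 m' → p1 (x * m * x⁻¹) = p1 (x * m' * x⁻¹) := by
    intro m hm m' hm' e
    have h1 : m * m'⁻¹ ∈ DD V R := by
      rw [← ym.ker1 _ (mul_mem hm (inv_mem hm')), ym.mul1 _ hm _ (inv_mem hm'), e,
        ← ym.mul1 _ hm' _ (inv_mem hm'), mul_inv_cancel, ym.ker1 _ (one_mem _)]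
      exact one_mem _
    have h2 : x * (m * m'⁻¹) * x⁻¹ ∈ DD V R := conj_mem_of_normalizer (b.NV_le_ND hx) h1
    have e2 : x * m * x⁻¹ = x * (m * m'⁻¹) * x⁻¹ * (x * m' * x⁻¹) := by group
    rw [e2, ym.mul1 _ (b.D_le_U i h2) _ (hxi _ hm'), (ym.ker1 _ (b.D_le_U i h2)).2 h2, zero_add]
  have hkey : ∀ s, s ≠ 0 → ∃ m ∈ UU V R i, p1 m = m0 ∧ p1 (x * m * x⁻¹) = (σ s * s⁻¹) • m0 := by
    intro s hs
    obtain ⟨u, hu, hpu⟩ := ym.surj2 (s⁻¹ • m0)
    refine ⟨w1 s * u * (w1 s)⁻¹ * u⁻¹, b.WU' (c.w1_mem s) hu, ?_, ?_⟩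
    · rw [ym.act12 s u hu, hpu, smul_smul, mul_inv_cancel₀ hs, one_smul]
    · have hw : x * w1 s * x⁻¹ ∈ WW V (R i) := by
        rw [← b.cj_WW hi]; exact conj_mem_cj (c.w1_mem s)
      set y := x * w1 s * x⁻¹ with hy
      set u' := x * u * x⁻¹ with hu'
      have hu'' : u' ∈ UU V R j := hxj u hu
      have e1 : x * (w1 s * u * (w1 s)⁻¹ * u⁻¹) * x⁻¹ = y * u' * y⁻¹ * u'⁻¹ := by
        rw [hy, hu']; group
      have h3 := b.same hw (c.w1_mem (σ s)) (fun r hr => by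
        obtain ⟨p, q, rfl⟩ := (c.mem_V r).1 hr
        rw [hσ, c.w1_act]) (UU_le_YY j hu'')
      have e2 : y * u' * y⁻¹ * u'⁻¹ =
          (y * u' * y⁻¹ * (w1 (σ s) * u' * (w1 (σ s))⁻¹)⁻¹) * (w1 (σ s) * u' * (w1 (σ s))⁻¹ * u'⁻¹) := by
        group
      rw [e1, e2, ym.mul1 _ (b.D_le_U i h3) _ (b.WU' (c.w1_mem _) hu''),
        (ym.ker1 _ (b.D_le_U i h3)).2 h3, zero_add, ym.act12 _ _ hu'', hp2 u hu, hpu, smul_smul]
  have hσ1 : ∀ s, s ≠ 0 → σ s = σ 1 * s := by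
    intro s hs
    obtain ⟨m, hm, e1, e2⟩ := hkey s hs
    obtain ⟨m', hm', e1', e2'⟩ := hkey 1 one_ne_zero
    have h := hp1 m hm m' hm' (e1.trans e1'.symm)
    rw [e2, e2', inv_one, mul_one, ← sub_eq_zero, ← sub_smul, smul_eq_zero] at h
    rcases h with h | h
    · rw [← sub_eq_zero.1 h, mul_assoc, inv_mul_cancel₀ hs, mul_one]
    · exact absurd h hm0
  refine ⟨σ 1 * ρ 1, fun p => ?_⟩
  by_cases hp : p = 0
  · rw [hp, mul_zero, c.v_zero, mul_one, mul_inv_cancel]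
  · rw [← hτ]
    congr 1
    have := hrel p 1
    rw [mul_one] at this
    rw [this, hσ1 p hp]
    ring

theorem scalar_pow {f : F → G} {x : G} {κ : F} (h : ∀ p, x * f p * x⁻¹ = f (κ * p)) (n : ℕ) (p : F) :
    x ^ n * f p * (x ^ n)⁻¹ = f (κ ^ n * p) := by
  induction n with
  | zero => simp
  | succ n ih =>
    have e : x ^ (n + 1) * f p * (x ^ (n + 1))⁻¹ = x * (x ^ n * f p * (x ^ n)⁻¹) * x⁻¹ := by
      rw [pow_succ']; group
    rw [e, ih, h, pow_succ', mul_assoc]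

/-- a 2-element acting as a scalar acts trivially -/
theorem scalar_one [CharP F 2] {f : F → G} (hf : Function.Injective f) {x : G} {n : ℕ} (hn : x ^ 2 ^ n = 1)
    {κ : F} (h : ∀ p, x * f p * x⁻¹ = f (κ * p)) : ∀ p, x * f p * x⁻¹ = f p := by
  have h1 := scalar_pow h (2 ^ n) 1
  rw [hn, one_mul, inv_one, mul_one, mul_one] at h1
  have h2 : κ ^ 2 ^ n = 1 := (hf h1).symm
  have h3 : κ = 1 := by
    have h4 : (κ - 1) ^ 2 ^ n = 0 := by
      have : ExpChar F 2 := ExpChar.prime Nat.prime_two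
      rw [sub_pow_char_pow, h2, one_pow, sub_self]
    exact sub_eq_zero.1 (pow_eq_zero_iff (by positivity) |>.1 h4)
  intro p
  rw [h, h3, one_mul]

/-- a 2-subgroup `O` of `N(V) ∩ N(R i)` with `[O, C(R i)] ≤ Q i` centralises `R i` -/
theorem O_le_cen [Finite F] [CharP F 2] (c : Coord V R i j v w1 w2) (b : BT V R) (hU : ¬ UU V R j ≤ DD V R)
    {O : Subgroup G} (hO : IsPGroup 2 O) (hV : O ≤ normalizer (V : Set G))
    (hR : O ≤ normalizer (R i : Set G))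
    (hc : ∀ x ∈ O, ∀ g ∈ centralizer (R i : Set G), x * g * x⁻¹ * g⁻¹ ∈ QQ (R i)) :
    O ≤ centralizer (R i : Set G) := by
  intro x hx
  have hi : cj x (R i) = R i := cj_eq_self_iff.2 (hR hx)
  obtain ⟨k, hk⟩ := b.perm x (hV hx) j
  have hki : k ≠ i := by
    rintro rfl
    exact c.ne (b.R_index (cj_injective (hi.trans hk.symm)))
  obtain ⟨w, hw, hwk⟩ := b.trans i hki c.ne.symm
  have hwQ := b.W_le_Q i hw
  have h1 : cj (w * x) (R j) = R j := by rw [cj_mul, hk, hwk]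
  have h2 : cj (w * x) (R i) = R i := by rw [cj_mul, hi, cj_eq_self_iff.2 (b.W_le_N i hw)]
  have h3 : w * x ∈ normalizer (V : Set G) := mul_mem (b.W_le_NV i hw) (hV hx)
  have h4 : ∀ u ∈ UU V R j, (w * x) * u * (w * x)⁻¹ * u⁻¹ ∈ DD V R := by
    intro u hu
    rw [← b.UK c.ne]
    have huV : u ∈ centralizer (V : Set G) := UU_le_cen j hu
    have huR : u ∈ centralizer (R i : Set G) := centralizer_le (b.R_le i) huV
    refine mem_inf.2 ⟨?_, b.Q_le_K i ?_⟩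
    · refine mul_mem ?_ (inv_mem hu)
      rw [← b.cj_UU h3 h1]
      exact conj_mem_cj hu
    · have e : (w * x) * u * (w * x)⁻¹ * u⁻¹ =
          (w * (x * u * x⁻¹ * u⁻¹) * w⁻¹) * (w * (u * w⁻¹ * u⁻¹)) := by group
      rw [e]
      exact mul_mem (mul_mem (mul_mem hwQ (hc x hx u huR)) (inv_mem hwQ))
        (mul_mem hwQ (conj_mem_of_normalizer (le_normalizer_O2 _ (b.cen_le_N i huV)) (inv_mem hwQ)))
  obtain ⟨κ, hκ⟩ := scalar c b hU h3 h2 h1 h4
  have hκ' : ∀ p, x * v p 0 * x⁻¹ = v (κ * p) 0 := by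
    intro p
    rw [← hκ p]
    have h5 : x * v p 0 * x⁻¹ ∈ R i := by
      rw [← hi]; exact conj_mem_cj ((c.mem_R1 _).2 ⟨p, rfl⟩)
    have h6 := b.conj_R hwQ h5
    rw [← h6]; group
  obtain ⟨n, hn⟩ := hO ⟨x, hx⟩
  have hn' : x ^ 2 ^ n = 1 := congrArg Subtype.val hn
  have h7 := scalar_one (f := fun p => v p 0) (fun p q h => (c.v_inj h).1) hn' hκ'
  rw [mem_centralizer_iff]
  intro r hr
  obtain ⟨p, rfl⟩ := (c.mem_R1 r).1 hr
  exact (mul_inv_eq_iff_eq_mul.1 (h7 p)).symm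

/-- a 2-element of `N(R i) ∩ N(R j)` which centralises `R i` centralises `V` -/
theorem cen_V [CharP F 2] (c : Coord V R i j v w1 w2) (b : BT V R) {x : G} (hi : x ∈ centralizer (R i : Set G))
    (hj : cj x (R j) = R j) {n : ℕ} (hn : x ^ 2 ^ n = 1) : x ∈ centralizer (V : Set G) := by
  have hi' : cj x (R i) = R i := by
    rw [cj_eq_self_iff]
    refine le_normalizer_of (K := centralizer (R i : Set G)) (fun k hk r hr => ?_) hi
    rw [← mem_centralizer_iff.1 hk r hr, mul_inv_cancel_right]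
    exact hr
  obtain ⟨τ, ρ, σ, hτ, hρ, hσ, hrel⟩ := semi c b hi' hj
  have h0 : ∀ p, τ p = p := by
    intro p
    have h1 := hτ p
    rw [← mem_centralizer_iff.1 hi (v p 0) ((c.mem_R1 _).2 ⟨p, rfl⟩), mul_inv_cancel_right] at h1
    exact (c.v_inj h1).1
  have h1 : ∀ q, ρ q = (σ 1)⁻¹ * q := by
    intro q
    have h2 := hrel 1 q
    rw [h0, one_mul] at h2
    have h3 : σ 1 ≠ 0 := by
      intro h3
      have h4 := hrel 1 1
      rw [h0, h3, zero_mul, mul_one] at h4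
      exact one_ne_zero h4
    calc ρ q = (σ 1)⁻¹ * (σ 1 * ρ q) := by rw [← mul_assoc, inv_mul_cancel₀ h3, one_mul]
      _ = (σ 1)⁻¹ * q := by rw [← h2]
  have h2 := scalar_one (f := fun p => v 0 p) (fun p q h => (c.v_inj h).2) hn
    (κ := (σ 1)⁻¹) (fun p => by rw [← hρ, h1])
  rw [mem_centralizer_iff]
  intro y hy
  obtain ⟨p, q, rfl⟩ := (c.mem_V y).1 hy
  have e1 : v p q = v p 0 * v 0 q := by rw [← c.v_add, add_zero, zero_add]
  have e2 := h2 q
  have e3 := mem_centralizer_iff.1 hi (v p 0) ((c.mem_R1 _).2 ⟨p, rfl⟩)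
  rw [e1]
  calc v p 0 * v 0 q * x = v p 0 * (v 0 q * x) := by group
    _ = v p 0 * (x * v 0 q) := by rw [← mul_inv_eq_iff_eq_mul.1 e2]
    _ = (v p 0 * x) * v 0 q := by group
    _ = x * (v p 0 * v 0 q) := by rw [e3]; group

/-- a 2-element of `N(V)` which centralises `R i` acts trivially on `V / R i` -/
theorem comm_mem [CharP F 2] (c : Coord V R i j v w1 w2) (b : BT V R) {T : Subgroup G} (hT : IsPGroup 2 T)
    (hV : T ≤ normalizer (V : Set G)) (hC : T ≤ centralizer (R i : Set G)) (hW : WW V (R i) ≤ T) :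
    ∀ m ∈ V, ∀ t ∈ T, t * m * t⁻¹ * m⁻¹ ∈ R i := by
  intro m hm t ht
  obtain ⟨k, hk⟩ := b.perm t (hV ht) j
  have hi : cj t (R i) = R i := by
    rw [cj_eq_self_iff]
    refine le_normalizer_of (K := centralizer (R i : Set G)) (fun k hk r hr => ?_) (hC ht)
    rw [← mem_centralizer_iff.1 hk r hr, mul_inv_cancel_right]
    exact hr
  have hki : k ≠ i := by
    rintro rfl
    exact c.ne (b.R_index (cj_injective (hi.trans hk.symm)))
  obtain ⟨w, hw, hwk⟩ := b.trans i hki c.ne.symm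
  have h1 : cj (w * t) (R j) = R j := by rw [cj_mul, hk, hwk]
  have hwt : w * t ∈ T := mul_mem (hW hw) ht
  obtain ⟨n, hn⟩ := hT ⟨_, hwt⟩
  have h2 := cen_V c b (hC hwt) h1 (n := n) (congrArg Subtype.val hn)
  have h3 : t * m * t⁻¹ = w⁻¹ * m * w := by
    have h4 := mem_centralizer_iff.1 h2 m hm
    have h5 : w * t * m * t⁻¹ = m * w := by
      calc w * t * m * t⁻¹ = (w * t * m) * t⁻¹ := rfl
        _ = (m * (w * t)) * t⁻¹ := by rw [h4]
        _ = m * w := by group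
    calc t * m * t⁻¹ = w⁻¹ * (w * t * m * t⁻¹) := by group
      _ = w⁻¹ * m * w := by rw [h5]; group
  rw [h3]
  have h6 := b.QV i w⁻¹ (b.W_le_Q i (inv_mem hw)) m hm
  rwa [inv_inv] at h6

end scalar

/-- a nontrivial section `B / A` has a nontrivial fixed point under a 2-group -/
theorem exists_fixed_mod [Finite G] {T B A : Subgroup G} (hT : IsPGroup 2 T) (hBT : B ≤ T)
    (hB : T ≤ normalizer (B : Set G)) (hA : T ≤ normalizer (A : Set G)) (hne : ¬ B ≤ A) :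
    ∃ m ∈ B, m ∉ A ∧ ∀ t ∈ T, t * m * t⁻¹ * m⁻¹ ∈ A := by
  have : Fact (Nat.Prime 2) := ⟨Nat.prime_two⟩
  have hnA : (A.subgroupOf T).Normal := normal_subgroupOf_of_le_normalizer hA
  have hnB : (B.subgroupOf T).Normal := normal_subgroupOf_of_le_normalizer hB
  have hp : IsPGroup 2 (T ⧸ A.subgroupOf T) := hT.to_quotient _
  have : Group.IsNilpotent (T ⧸ A.subgroupOf T) := hp.isNilpotent
  let N : Subgroup (T ⧸ A.subgroupOf T) := (B.subgroupOf T).map (QuotientGroup.mk' (A.subgroupOf T))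
  have hN : N.Normal := hnB.map _ (QuotientGroup.mk'_surjective _)
  have hN1 : N ≠ ⊥ := by
    intro h
    apply hne
    intro x hx
    have h1 : QuotientGroup.mk' (A.subgroupOf T) ⟨x, hBT hx⟩ ∈ N := ⟨⟨x, hBT hx⟩, hx, rfl⟩
    rw [h, mem_bot] at h1
    exact (QuotientGroup.eq_one_iff (⟨x, hBT hx⟩ : T)).1 h1
  have h2 := Lib.NormalAbelian.normal_inf_center_ne_bot N hN1
  obtain ⟨⟨y, hy⟩, hy1⟩ := Subgroup.ne_bot_iff_exists_ne_one.1 h2
  obtain ⟨⟨m, hm, rfl⟩, hyc⟩ := mem_inf.1 hy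
  refine ⟨m, hm, fun h => hy1 ?_, fun t ht => ?_⟩
  · apply Subtype.ext
    exact (QuotientGroup.eq_one_iff m).2 h
  · have h3 := mem_center_iff.1 hyc (QuotientGroup.mk' (A.subgroupOf T) ⟨t, ht⟩)
    rw [← map_mul, ← map_mul] at h3
    have h4 : QuotientGroup.mk' (A.subgroupOf T) (⟨t, ht⟩ * m * (⟨t, ht⟩ : T)⁻¹ * m⁻¹) = 1 := by
      rw [mul_assoc, map_mul, h3, ← map_mul]
      rw [show m * ⟨t, ht⟩ * ((⟨t, ht⟩ : T)⁻¹ * m⁻¹) = 1 by group, map_one]
    have h5 := (QuotientGroup.eq_one_iff ((⟨t, ht⟩ : T) * m * (⟨t, ht⟩ : T)⁻¹ * m⁻¹)).1 h4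
    exact h5

/-- `C_G(z)` and `R`: the part of the argument after `O₂(C_G(z)) ≤ C(R i)` -/
theorem core [Finite G] (b : BT V R) {i : ι} {z : G} (hz : z ∈ R i) {T : Subgroup G}
    (hO : O2 (centralizer {z}) ≤ centralizer (R i : Set G))
    (hOc : ∀ g ∈ centralizer {z}, g ∈ centralizer (O2 (centralizer {z}) : Set G) → g ∈ O2 (centralizer {z}))
    (hT : IsPGroup 2 T) (hTC : T ≤ centralizer (R i : Set G)) (hQT : QQ (R i) ≤ T)
    (hFr : ∀ n ∈ normalizer (R i : Set G), ∃ c ∈ centralizer (R i : Set G), c * n ∈ normalizer (T : Set G))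
    (hE' : ∀ m ∈ V, ∀ t ∈ T, t * m * t⁻¹ * m⁻¹ ∈ R i)
    (hE : ∀ m ∈ QQ (R i), (∀ t ∈ T, t * m * t⁻¹ * m⁻¹ ∈ R i) → m ∈ V) :
    O2 (centralizer {z}) ≤ QQ (R i) ∧
      O2 (centralizer {z}) ⊓ centralizer (O2 (centralizer {z}) : Set G) = R i ∧
      centralizer {z} ≤ normalizer (R i : Set G) := by
  have hCK : centralizer (R i : Set G) ≤ centralizer {z} := centralizer_le (Set.singleton_subset_iff.2 hz)
  set K := centralizer {z} with hK
  set O := O2 K with hOdef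
  have hCN : centralizer (R i : Set G) ≤ normalizer (R i : Set G) := by
    refine le_normalizer_of fun k hk r hr => ?_
    rw [← mem_centralizer_iff.1 hk r hr, mul_inv_cancel_right]
    exact hr
  have hOQ : O ≤ QQ (R i) :=
    le_O2_of_chain (A := O) (B := centralizer (R i : Set G)) (C := centralizer (R i : Set G)) hO le_rfl hCN
      (O2_isPGroup _) (fun g hg a ha => conj_mem_of_normalizer (le_normalizer_O2 K (hCK hg)) ha)
      (fun g hg a ha => mul_mem (mul_mem hg ha) (inv_mem hg))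
      (fun g hg a ha => conj_mem_of_normalizer (normalizer_le_normalizer_centralizer _ hg) ha)
  have hVK : ∀ a ∈ V, a ∈ K := by
    intro a ha
    rw [hK, mem_centralizer_iff]
    rintro _ rfl
    exact b.V_comm _ (b.R_le i hz) a ha
  have hRO : R i ≤ O := by
    intro a ha
    refine hOc a (hVK a (b.R_le i ha)) ?_
    rw [mem_centralizer_iff]
    intro o ho
    exact (mem_centralizer_iff.1 (hO ho) a ha).symm
  set B := O ⊓ centralizer (O : Set G) with hB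
  have hRB : R i ≤ B := fun a ha => mem_inf.2 ⟨hRO ha, by
    rw [mem_centralizer_iff]
    intro o ho
    exact (mem_centralizer_iff.1 (hO ho) a ha).symm⟩
  have hKO : K ≤ normalizer (O : Set G) := le_normalizer_O2 K
  have hKB : K ≤ normalizer (B : Set G) := by
    intro g hg
    rw [← cj_eq_self_iff, hB, cj_inf, ← centralizer_cj, cj_eq_self_iff.2 (hKO hg)]
  have hBR : B ≤ R i := by
    by_contra h
    obtain ⟨m, hmB, hmR, hmt⟩ := exists_fixed_mod hT (inf_le_left.trans (hOQ.trans hQT))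
      (hTC.trans (hCK.trans hKB)) (hTC.trans hCN) h
    have hmV : m ∈ V := hE m (hOQ (mem_inf.1 hmB).1) hmt
    have hOV : O ≤ centralizer (V : Set G) := by
      intro o ho
      obtain ⟨k, hk⟩ := b.R_cov m hmV
      have hki : k ≠ i := by rintro rfl; exact hmR hk
      have hoQ := hOQ ho
      obtain ⟨l, hl⟩ := b.perm o (b.Q_le_NV i hoQ) k
      have h1 : m ∈ R l := by
        rw [← hl, mem_cj]
        have := mem_centralizer_iff.1 (mem_inf.1 hmB).2 o ho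
        rw [mul_assoc, ← this]
        rwa [inv_mul_cancel_left]
      have h2 : l = k := by
        by_contra h3
        exact hmR (by rw [b.eq_one h3 h1 hk]; exact one_mem _)
      rw [h2] at hl
      exact b.mem_cen_Q hki hoQ hl
    have hVB : V ≤ B := by
      intro a ha
      have h1 : a ∈ centralizer (O : Set G) := by
        rw [mem_centralizer_iff]
        intro o ho
        exact (mem_centralizer_iff.1 (hOV ho) a ha).symm
      exact mem_inf.2 ⟨hOc a (hVK a ha) h1, h1⟩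
    have hWB : WW V (R i) ≤ B := by
      refine iSup_le fun h => ?_
      obtain ⟨c, hc, hcn⟩ := hFr h h.2
      set n := c * (h : G) with hn
      have hnR : n ∈ normalizer (R i : Set G) := mul_mem (hCN hc) h.2
      have hnV : n ∈ normalizer (V : Set G) := by
        refine mem_normalizer_of_conj fun a ha => ?_
        refine hE _ (conj_mem_of_normalizer (le_normalizer_O2 _ hnR) (b.V_Q i ha)) fun t ht => ?_
        have h1 := hE' a ha _ (conj_inv_mem_of_normalizer hcn ht)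
        have h2 := conj_mem_of_normalizer hnR h1
        have e : n * (n⁻¹ * t * n * a * (n⁻¹ * t * n)⁻¹ * a⁻¹) * n⁻¹ =
            t * (n * a * n⁻¹) * t⁻¹ * (n * a * n⁻¹)⁻¹ := by group
        rwa [e] at h2
      have e1 : (h : G) = c⁻¹ * n := by rw [hn, inv_mul_cancel_left]
      rw [e1, cj_mul, cj_eq_self_iff.2 hnV]
      have h3 := cj_mono (g := c⁻¹) hVB
      rwa [cj_eq_self_iff.2 (hKB (hCK (inv_mem hc)))] at h3
    obtain ⟨a, ha, ha1⟩ := b.exists_ne i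
    obtain ⟨w, hw, y, hy, e⟩ := b.exists_comm i ha
    apply ha1
    rw [← e]
    have h4 := mem_centralizer_iff.1 (mem_inf.1 (hWB hw)).2 y (mem_inf.1 (hVB hy)).1
    rw [← h4]
    group
  have hBeq : B = R i := le_antisymm hBR hRB
  exact ⟨hOQ, hBeq, by rw [← hBeq]; exact hKB⟩

variable {F : Type v} [Field F] [Finite F] [CharP F 2] {v : F → F → G} {w1 w2 : F → G}

/-- **THEOREM F6.** `V` natural, `R i` a point, `z ∈ R i ∩ Z(S)`, `S` any Sylow subgroup of `G` normalising `V` and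
`R i` (field automorphisms allowed), `U j > D`, `C_{Q i / R i}(S ∩ C(R i)) ≤ V / R i`:
then `O₂(C_G(z)) ≤ Q i` has centre `R i` and `C_G(z) ≤ N_G(R i)`. -/
theorem main [Finite G] (c : Coord V R i j v w1 w2) (b : BT V R) (hU : ¬ UU V R j ≤ DD V R) (S : Sylow 2 G)
    (hSV : (S : Subgroup G) ≤ normalizer (V : Set G)) (hSR : (S : Subgroup G) ≤ normalizer (R i : Set G))
    {z : G} (hz : z ∈ R i) (hzS : (S : Subgroup G) ≤ centralizer {z})
    (hOc : ∀ g ∈ centralizer {z}, g ∈ centralizer (O2 (centralizer {z}) : Set G) → g ∈ O2 (centralizer {z}))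
    (hE : ∀ m ∈ QQ (R i), (∀ t ∈ (S : Subgroup G), t ∈ centralizer (R i : Set G) → t * m * t⁻¹ * m⁻¹ ∈ R i) →
      m ∈ V) :
    O2 (centralizer {z}) ≤ QQ (R i) ∧
      O2 (centralizer {z}) ⊓ centralizer (O2 (centralizer {z}) : Set G) = R i ∧
      centralizer {z} ≤ normalizer (R i : Set G) := by
  have : Fact (Nat.Prime 2) := ⟨Nat.prime_two⟩
  have hCK : centralizer (R i : Set G) ≤ centralizer {z} := centralizer_le (Set.singleton_subset_iff.2 hz)
  have hCN : centralizer (R i : Set G) ≤ normalizer (R i : Set G) := by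
    refine le_normalizer_of fun k hk r hr => ?_
    rw [← mem_centralizer_iff.1 hk r hr, mul_inv_cancel_right]
    exact hr
  -- a normal 2-subgroup of a subgroup containing `S` is in `S`
  have hnS : ∀ {L A : Subgroup G}, (S : Subgroup G) ≤ L → A ≤ L → IsPGroup 2 A → L ≤ normalizer (A : Set G) →
      A ≤ S := by
    intro L A hSL hAL hA hn
    have h1 : IsPGroup 2 ((S : Subgroup G) ⊔ A : Subgroup G) := by
      have h2 : IsPGroup 2 (S.subgroupOf L ⊔ A.subgroupOf L : Subgroup L) := by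
        have : (A.subgroupOf L).Normal := normal_subgroupOf_of_le_normalizer hn
        exact IsPGroup.to_sup_of_normal_right (S.isPGroup'.comap_of_injective _ L.subtype_injective)
          (hA.comap_of_injective _ L.subtype_injective)
      have h3 := h2.map L.subtype
      rwa [Subgroup.map_sup, subgroupOf_map_subtype, subgroupOf_map_subtype, inf_eq_left.2 hSL,
        inf_eq_left.2 hAL] at h3
    rw [← S.is_maximal' h1 le_sup_left]
    exact le_sup_right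
  have hOS : O2 (centralizer {z}) ≤ (S : Subgroup G) :=
    hnS hzS (O2_le _) (O2_isPGroup _) (le_normalizer_O2 _)
  have hQS : QQ (R i) ≤ (S : Subgroup G) := hnS hSR (O2_le _) (O2_isPGroup _) (le_normalizer_O2 _)
  have hQC : QQ (R i) ≤ centralizer (R i : Set G) := by
    intro g hg
    rw [mem_centralizer_iff]
    intro r hr
    exact (b.QR i g hg r hr).symm
  have hO : O2 (centralizer {z}) ≤ centralizer (R i : Set G) := by
    refine O_le_cen c b hU (O2_isPGroup _) (hOS.trans hSV) (hOS.trans hSR) fun x hx g hg => ?_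
    -- `[O, C(R i)] ≤ O ∩ C(R i) ≤ O₂(C(R i)) ≤ Q i`
    have h1 : O2 (centralizer {z}) ⊓ centralizer (R i : Set G) ≤ QQ (R i) :=
      le_O2_of_chain (A := O2 (centralizer {z}) ⊓ centralizer (R i : Set G)) (B := centralizer (R i : Set G))
        (C := centralizer (R i : Set G)) inf_le_right le_rfl hCN
        ((O2_isPGroup _).to_le inf_le_left)
        (fun g hg a ha => mem_inf.2 ⟨conj_mem_of_normalizer (le_normalizer_O2 _ (hCK hg)) (mem_inf.1 ha).1,
          mul_mem (mul_mem hg (mem_inf.1 ha).2) (inv_mem hg)⟩)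
        (fun g hg a ha => mul_mem (mul_mem hg ha) (inv_mem hg))
        (fun g hg a ha => conj_mem_of_normalizer (normalizer_le_normalizer_centralizer _ hg) ha)
    apply h1
    refine mem_inf.2 ⟨?_, ?_⟩
    · have e : x * g * x⁻¹ * g⁻¹ = x * (g * x⁻¹ * g⁻¹) := by group
      rw [e]
      exact mul_mem hx (conj_mem_of_normalizer (le_normalizer_O2 _ (hCK hg)) (inv_mem hx))
    · exact mul_mem (conj_mem_of_normalizer (normalizer_le_normalizer_centralizer _ (hSR (hOS hx))) hg)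
        (inv_mem hg)
  have hSyl : StdEven.Syl.IsSyl (S : Subgroup G) (normalizer (R i : Set G)) :=
    ⟨hSR, S.isPGroup', fun X hX _ hle => S.is_maximal' hX hle⟩
  have hT := hSyl.inf_normal hCN (normalizer_le_normalizer_centralizer _)
  refine core b hz hO hOc hT.two hT.le (le_inf hQS hQC) (fun n hn => ?_) ?_ fun m hm h => ?_
  · exact hT.frattini (normalizer_le_normalizer_centralizer _ hn)
  · exact comm_mem c b hT.two (inf_le_left.trans hSV) inf_le_right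
      ((b.W_le_Q i).trans (le_inf hQS hQC))
  · exact hE m hm fun t ht ht' => h t (mem_inf.2 ⟨ht, ht'⟩)

end Cfsg.Agent.Omega.BTwo.Cz

end

section


/-!
# `U j > D`, and `C_G(r) ≤ N(R)` for all `r ∈ R#`, `R` TI (THEOREM F6, second part)

* `Cz.not_UU_le`: `U j > D` (`c ≥ 1`), from a Sylow 2-subgroup of `G` in `N(V) ∩ N(R i)`;
* `Cz.exists_move`: `N(V) ∩ N(R i)` is transitive on `R i - 1`;
* `Cz.tir`: `R i` is TI as soon as `C_G(z) ≤ N(R i)` for one `i` and one `1 ≠ z ∈ R i`.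
-/

set_option autoImplicit false

namespace Cfsg.Agent.Omega.BTwo.Cz

open Subgroup

universe u v w

variable {G : Type u} [Group G] {ι : Type w} {V : Subgroup G} {R : ι → Subgroup G} {i j : ι}

theorem le_or_le {A B C : Subgroup G} (h : ∀ x ∈ C, x ∈ A ∨ x ∈ B) : C ≤ A ∨ C ≤ B := by
  by_contra hcon
  rw [not_or, SetLike.not_le_iff_exists, SetLike.not_le_iff_exists] at hcon
  obtain ⟨⟨x, hx, hxA⟩, y, hy, hyB⟩ := hcon
  have hxB := (h x hx).resolve_left hxA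
  have hyA := (h y hy).resolve_right hyB
  rcases h _ (mul_mem hx hy) with h1 | h1
  · exact hxA ((mul_mem_cancel_right hyA).1 h1)
  · exact hyB ((mul_mem_cancel_left hxB).1 h1)

/-- `c ≥ 1` -/
theorem not_UU_le [Finite G] (b : BTC V R) (S : Sylow 2 G) (hij : i ≠ j)
    (hSV : (S : Subgroup G) ≤ normalizer (V : Set G)) (hSR : (S : Subgroup G) ≤ normalizer (R i : Set G)) :
    ¬ UU V R j ≤ DD V R := by
  intro hU
  have b' := b.toBT
  have hUk : ∀ k, UU V R k ≤ DD V R := by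
    intro k
    obtain ⟨x, hx, hxk⟩ := b'.trans_one j k
    rw [← b'.cj_UU hx hxk, ← cj_eq_self_iff.2 (b'.NV_le_ND hx)]
    exact cj_mono hU
  have hD : DD V R ≤ V := by
    intro d hd
    refine b.lam_inj hd fun y hy => ?_
    rw [b'.Y_eq hij] at hy
    have hyD : y ∈ DD V R := (sup_le (hUk i) (hUk j)) hy
    exact b'.lam_D hd hyD
  have hUV : ∀ k, UU V R k ≤ V := fun k => (hUk k).trans hD
  obtain ⟨h, hh, H⟩ := b'.mt i
  have hRV' : R i ≤ cj h V := by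
    rw [← cj_eq_self_iff.2 hh]
    exact cj_mono (b'.R_le i)
  have key : ∀ x ∈ WW V (R i), x * x = 1 → x ∈ V ∨ x ∈ cj h V := by
    intro x hx hx2
    obtain ⟨v, hv, hxv⟩ := b'.W_fact (fun j k hj hk => (H j k hj hk).1) hh hx
    have hv0 := hUV i hxv
    set a := h * v * h⁻¹ with ha
    set v0 := a⁻¹ * x with hv0def
    have haV : a ∈ cj h V := conj_mem_cj hv
    have haW : a ∈ WW V (R i) := cj_le_WW hh haV
    have e : x = a * v0 := by rw [hv0def, mul_inv_cancel_left]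
    by_cases hR : v0 ∈ R i
    · right
      rw [e]
      exact mul_mem haV (hRV' hR)
    · left
      obtain ⟨k, hk⟩ := b'.R_cov v0 hv0
      have hki : k ≠ i := by rintro rfl; exact hR hk
      have ha2 : a * a = 1 := by
        rw [ha]
        have : h * v * h⁻¹ * (h * v * h⁻¹) = h * (v * v) * h⁻¹ := by group
        rw [this, b'.V_sq v hv, mul_one, mul_inv_cancel]
      have hcom : a * v0 = v0 * a := by
        rw [e] at hx2
        have h1 : a * v0 = v0⁻¹ * a⁻¹ := by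
          rw [← mul_inv_rev, eq_inv_iff_mul_eq_one]
          exact hx2
        rw [h1, b'.inv_eq hv0, inv_eq_of_mul_eq_one_left ha2]
      obtain ⟨l, hl⟩ := b'.perm a (b'.W_le_NV i haW) k
      have h1 : v0 ∈ R l := by
        rw [← hl, mem_cj, mul_assoc, ← hcom, inv_mul_cancel_left]
        exact hk
      have h2 : l = k := by
        by_contra h3
        exact hR (by rw [b'.eq_one h3 h1 hk]; exact one_mem _)
      rw [h2] at hl
      rw [e]
      exact mul_mem (hUV i (b'.mem_cen hki haW hl)) hv0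
  have hcard : ∀ n, Nat.card (cj n V) = Nat.card V := fun n => card_cj n V
  have two : ∀ n ∈ normalizer (R i : Set G), cj n V = V ∨ cj n V = cj h V := by
    intro n hn
    have h1 : ∀ x ∈ cj n V, x ∈ V ∨ x ∈ cj h V := by
      intro x hx
      refine key x (cj_le_WW hn hx) ?_
      rw [mem_cj] at hx
      have h2 := b'.V_sq _ hx
      have e : x * x = n * (n⁻¹ * x * n * (n⁻¹ * x * n)) * n⁻¹ := by group
      rw [e, h2, mul_one, mul_inv_cancel]
    rcases le_or_le h1 with h2 | h2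
    · exact Or.inl (eq_of_le_of_card_ge h2 (hcard n).ge)
    · exact Or.inr (eq_of_le_of_card_ge h2 (by rw [hcard n, hcard h]))
  have hne : cj h V ≠ V := by
    intro hcon
    obtain ⟨j', hj', -⟩ := b'.third i i
    obtain ⟨k, hki, hkj⟩ := b'.third i j'
    obtain ⟨⟨v, hv, hvk⟩, -⟩ := H j' k hj' hki
    have h1 : h * v * h⁻¹ ∈ V := by rw [← hcon]; exact conj_mem_cj hv
    have h2 : cj (h * v * h⁻¹) (R j') = R j' :=
      cj_eq_self_iff.2 (b'.cen_le_N j' (b'.V_le_cen h1))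
    rw [h2] at hvk
    exact hkj (b'.R_index hvk).symm
  have hrel : (normalizer (V : Set G) ⊓ normalizer (R i : Set G)).relIndex (normalizer (R i : Set G)) = 2 := by
    rw [relIndex_eq_two_iff]
    refine ⟨h, hh, fun n hn => ?_⟩
    by_cases h1 : n ∈ normalizer (V : Set G)
    · refine Or.inr ⟨⟨h1, hn⟩, fun h2 => hne ?_⟩
      have h3 : cj (n * h) V = V := cj_eq_self_iff.2 h2.1
      rw [cj_mul] at h3
      exact cj_injective (h3.trans (cj_eq_self_iff.2 h1).symm)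
    · refine Or.inl ⟨⟨?_, mul_mem hn hh⟩, fun h2 => h1 h2.1⟩
      have h2 : cj n V = cj h V := (two n hn).resolve_left fun h3 => h1 (cj_eq_self_iff.1 h3)
      change n * h ∈ normalizer (V : Set G)
      rw [← cj_eq_self_iff]
      rcases two _ (mul_mem hn hh) with h3 | h3
      · exact h3
      · exfalso
        rw [← h2, cj_mul] at h3
        exact hne (cj_injective h3)
  have h1 := relIndex_dvd_of_le_left (L := normalizer (R i : Set G)) (le_inf hSV hSR)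
  rw [hrel] at h1
  have : Fact (Nat.Prime 2) := ⟨Nat.prime_two⟩
  exact S.not_dvd_index (h1.trans (relIndex_dvd_index_of_le hSR))

variable {F : Type v} [Field F] [CharP F 2] {v : F → F → G} {w1 w2 : F → G}

/-- `N(V) ∩ N(R i)` is transitive on `R i - 1` -/
theorem exists_move (c : Coord V R i j v w1 w2) (b : BT V R) {r r' : G} (hr : r ∈ R i) (hr1 : r ≠ 1)
    (hr' : r' ∈ R i) (hr1' : r' ≠ 1) :
    ∃ n ∈ normalizer (R i : Set G), n ∈ normalizer (V : Set G) ∧ n * r * n⁻¹ = r' := by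
  obtain ⟨p, rfl⟩ := (c.mem_R1 r).1 hr
  obtain ⟨q, rfl⟩ := (c.mem_R1 r').1 hr'
  have hp : p ≠ 0 := by rintro rfl; exact hr1 c.v_zero
  have hq : q ≠ 0 := by rintro rfl; exact hr1' c.v_zero
  have ha : q * p⁻¹ ≠ 0 := mul_ne_zero hq (inv_ne_zero hp)
  refine ⟨hh w1 w2 (q * p⁻¹), cj_eq_self_iff.1 (c.hh_R1 b ha), b.X_le_NV (c.hh_mem_X b _), ?_⟩
  rw [c.hh_act ha, mul_zero, mul_assoc, inv_mul_cancel₀ hp, mul_one]

/-- `C_G(r) ≤ N(R k)` for all `1 ≠ r ∈ R k`, all `k` -/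
theorem cen_le (c : ∀ i j : ι, i ≠ j → ∃ (v : F → F → G) (w1 w2 : F → G), Coord V R i j v w1 w2) (b : BT V R)
    {z : G} (hz : z ∈ R i) (hz1 : z ≠ 1) (h : centralizer {z} ≤ normalizer (R i : Set G)) :
    ∀ k, ∀ r ∈ R k, r ≠ 1 → centralizer {r} ≤ normalizer (R k : Set G) := by
  -- conjugation
  have hcj : ∀ (x r : G) (k l : ι), cj x (R k) = R l → centralizer {r} ≤ normalizer (R k : Set G) →
      centralizer {x * r * x⁻¹} ≤ normalizer (R l : Set G) := by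
    intro x r k l hx hr y hy
    rw [← hx, normalizer_cj, mem_cj]
    apply hr
    rw [mem_centralizer_iff]
    intro s hs
    rw [Set.mem_singleton_iff.1 hs]
    have h1 := mem_centralizer_iff.1 hy _ (Set.mem_singleton _)
    have h2 : x⁻¹ * (x * r * x⁻¹ * y) * x = x⁻¹ * (y * (x * r * x⁻¹)) * x := by rw [h1]
    calc r * (x⁻¹ * y * x) = x⁻¹ * (x * r * x⁻¹ * y) * x := by group
      _ = x⁻¹ * (y * (x * r * x⁻¹)) * x := h2
      _ = x⁻¹ * y * x * r := by group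
  intro k r hr hr1
  obtain ⟨x, hx, hxk⟩ := b.trans_one k i
  obtain ⟨l, hl, -⟩ := b.third i i
  obtain ⟨v, w1, w2, c'⟩ := c i l (Ne.symm hl)
  have h1 : x * r * x⁻¹ ∈ R i := by rw [← hxk]; exact conj_mem_cj hr
  have h2 : x * r * x⁻¹ ≠ 1 := by
    intro h2
    apply hr1
    have : r = x⁻¹ * (x * r * x⁻¹) * x := by group
    rw [this, h2]; group
  obtain ⟨n, hn, -, hnz⟩ := exists_move c' b hz hz1 h1 h2
  have h3 := hcj n z i i (cj_eq_self_iff.2 hn) h
  rw [hnz] at h3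
  have h4 := hcj x⁻¹ _ i k (by rw [← hxk, cj_inv_cj]) h3
  have e : x⁻¹ * (x * r * x⁻¹) * x⁻¹⁻¹ = r := by group
  rwa [e] at h4

/-- `R k` is TI -/
theorem tir (c : ∀ i j : ι, i ≠ j → ∃ (v : F → F → G) (w1 w2 : F → G), Coord V R i j v w1 w2) (b : BT V R)
    {z : G} (hz : z ∈ R i) (hz1 : z ≠ 1) (h : centralizer {z} ≤ normalizer (R i : Set G)) (k : ι) (g r : G)
    (hr : r ∈ R k) (hr1 : r ≠ 1) (hg : g * r * g⁻¹ ∈ R k) : g ∈ normalizer (R k : Set G) := by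
  obtain ⟨l, hl, -⟩ := b.third k k
  obtain ⟨v, w1, w2, c'⟩ := c k l (Ne.symm hl)
  have h2 : g * r * g⁻¹ ≠ 1 := by
    intro h2
    apply hr1
    have : r = g⁻¹ * (g * r * g⁻¹) * g := by group
    rw [this, h2]; group
  obtain ⟨n, hn, -, hnz⟩ := exists_move c' b hg h2 hr hr1
  have h3 : n * g ∈ centralizer {r} := by
    rw [mem_centralizer_iff]
    intro s hs
    rw [Set.mem_singleton_iff.1 hs]
    have e : n * (g * r * g⁻¹) * n⁻¹ = n * g * r * (n * g)⁻¹ := by group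
    rw [e] at hnz
    exact (mul_inv_eq_iff_eq_mul.1 hnz).symm
  have h4 := cen_le c b hz hz1 h k r hr hr1 h3
  have h5 := mul_mem (inv_mem hn) h4
  rwa [inv_mul_cancel_left] at h5

end Cfsg.Agent.Omega.BTwo.Cz

end

end

-- merged: Cfsg.Agent.Mrg.Omega.IIa4.Sit
section

section


/-!
# II.a, `q ≥ 4`: the situation of `FrameFF.LeafA4` in the language of `BTwo`

`Sit S P g M`: the hypotheses of `LeafA4` (without the class `K`); `V = zl S P`, points `pt M i`.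
Derived: `Sit.btc`, `Sit.exists_coord`, `Sit.exists_torD`, `Sit.semi` (from `Perf`).
-/

set_option autoImplicit false
set_option linter.unusedSectionVars false

namespace Cfsg.Agent.Omega.IIa4

open Subgroup Cfsg Cfsg.Agent.ZN Cfsg.Agent.Lib.SL2Mat Cfsg.Agent.Omega.NatPair Cfsg.Agent.Omega.BTwo
open Cfsg.Agent.Omega.Frame Cfsg.Agent.Omega.FrameLE Cfsg.Agent.Omega.FrameFF

universe u

/-- the hypotheses of `FrameFF.LeafA4` -/
structure Sit {G : Type u} [Group G] [Finite G] (S : Sylow 2 G) (P : Subgroup G) (g : G) {F : Type} [Field F]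
    [Finite F] [CharP F 2] (M : NatMod F (zl (S : Subgroup G) P)) : Prop where
  ctx : Ctx G
  full : Full (S : Subgroup G)
  allIn : AllIn (S : Subgroup G)
  allFree : AllFree (S : Subgroup G)
  min : MinSame (S : Subgroup G) P g
  four : 4 ≤ Nat.card F

/-- `[⟨A^{N(R i)}⟩, ⟨A^{N(R i)}⟩] Q i ≥ A`, `A = U j` : the normal closure of `A` in `N(R i) / Q i` is perfect -/
def Perf {G : Type*} [Group G] {ι : Type*} (V : Subgroup G) (R : ι → Subgroup G) (i j : ι) : Prop :=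
  UU V R j ≤ ⁅(⨆ h : normalizer (R i : Set G), BTwo.cj (h : G) (UU V R j)),
    (⨆ h : normalizer (R i : Set G), BTwo.cj (h : G) (UU V R j))⁆ ⊔ QQ (R i)

/-- `O₂(N(R)) = W_R` is semi-extraspecial: `C(W k) = R k`, `Q k = W k` -/
def SemiOut {G : Type*} [Group G] {ι : Type*} (V : Subgroup G) (R : ι → Subgroup G) : Prop :=
  ∀ k, centralizer (WW V (R k) : Set G) = R k ∧ QQ (R k) = WW V (R k)

namespace Sit

variable {G : Type u} [Group G] [Finite G] {S : Sylow 2 G} {P : Subgroup G} {g : G} {F : Type} [Field F]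
  [Finite F] [CharP F 2] {M : NatMod F (zl (S : Subgroup G) P)} (h : Sit S P g M)
include h

theorem isParS : MinPar.IsParS (S : Subgroup G) P := h.min.pair.star₁

theorem pr : NatPair.Mutual (zl (S : Subgroup G) P) (NatPair.cj g (zl (S : Subgroup G) P)) where
  le := h.min.pair.le₂
  le' := h.min.pair.le₁
  ne := by
    by_contra hcon
    push Not at hcon
    apply h.min.pair.ne
    rw [eq_bot_iff, commutator_le]
    intro v hv w hw
    rw [mem_bot, commutatorElement_eq_one_iff_mul_comm]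
    exact hcon v hv w hw

theorem le_N : (S : Subgroup G) ≤ normalizer (zl (S : Subgroup G) P : Set G) :=
  h.isParS.le.trans (MinSimple.VModule.le_normalizer_zl _ _)

theorem P_le_N : P ≤ normalizer (zl (S : Subgroup G) P : Set G) := MinSimple.VModule.le_normalizer_zl _ _

theorem zc_le : zc (S : Subgroup G) ≤ zl (S : Subgroup G) P := MinSimple.VModule.zc_le_zl _ _

theorem cen_mem : ∀ z ∈ (S : Subgroup G), z * z = 1 → (∀ s ∈ (S : Subgroup G), s * z = z * s) →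
    z ∈ zl (S : Subgroup G) P := fun z hz hz2 hzc =>
  h.zc_le (MinSimple.VModule.mem_zc.2 ⟨hz, hzc, by rw [pow_two]; exact hz2⟩)

theorem btc_aux : zl (S : Subgroup G) P ≤ QQ (zl (S : Subgroup G) P ⊓ NatPair.cj g (zl (S : Subgroup G) P)) ∧
    BTC (zl (S : Subgroup G) P) (pt M) := IIa4.btc h.ctx.char2 M S h.le_N h.cen_mem h.pr

/-- `b = 2` -/
theorem V_le_QQ : zl (S : Subgroup G) P ≤ QQ (zl (S : Subgroup G) P ⊓ NatPair.cj g (zl (S : Subgroup G) P)) :=
  h.btc_aux.1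

theorem btc : BTC (zl (S : Subgroup G) P) (pt M) := h.btc_aux.2

theorem bt : BT (zl (S : Subgroup G) P) (pt M) := h.btc.toBT

theorem exists_ne : ∃ a : F, a ≠ 0 ∧ a ≠ 1 := by
  by_contra hcon
  push Not at hcon
  have h1 : Set.univ ⊆ ({0, 1} : Set F) := fun a _ => by
    by_cases ha : a = 0
    · exact Or.inl ha
    · exact Or.inr (hcon a ha)
  have h2 := Set.ncard_le_ncard h1
  rw [Set.ncard_pair zero_ne_one, Set.ncard_univ] at h2
  have := h.four
  omega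

/-- coordinates at two points -/
theorem exists_coord {i j : Pt M} (hij : i ≠ j) :
    ∃ (v : F → F → G) (w1 w2 : F → G), Coord (zl (S : Subgroup G) P) (pt M) i j v w1 w2 := by
  obtain ⟨w, u, -, -, -, w1, w2, c⟩ := BTwo.exists_coord M S h.le_N h.pr h.V_le_QQ hij
  exact ⟨_, w1, w2, c⟩

/-- the torus at two points -/
theorem exists_torD {i j : Pt M} {v : F → F → G} {w1 w2 : F → G}
    (c : Coord (zl (S : Subgroup G) P) (pt M) i j v w1 w2) :
    ∃ t : F → G, Lie.TorD (zl (S : Subgroup G) P) (pt M) i j v t :=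
  Lie.coord_exists_torD h.bt c (h.btc.cen_W_isPGroup i)

theorem semi {i j : Pt M} (hij : i ≠ j) (hp : Perf (zl (S : Subgroup G) P) (pt M) i j) :
    SemiOut (zl (S : Subgroup G) P) (pt M) := by
  obtain ⟨v, w1, w2, c⟩ := h.exists_coord hij
  exact fun k => c.semi h.btc h.exists_ne hp k

theorem exists_pair : ∃ i j : Pt M, i ≠ j := by
  have h1 : (![1, 0] : Fin 2 → F) ≠ 0 := fun h0 => one_ne_zero (congrFun h0 0)
  obtain ⟨j, hj, -⟩ := h.bt.third ⟨M.line ![1, 0], _, h1, rfl⟩ ⟨M.line ![1, 0], _, h1, rfl⟩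
  exact ⟨_, _, hj⟩

end Sit

end Cfsg.Agent.Omega.IIa4

end

section


/-!
# II.a, `q ≥ 4`: `⟨N(V), N(R)⟩ = G` from the TI property (`IIa4.AllP`)

`All.sup_eq_top` (helper221) and `All.mixed` (helper942) in the situation `Sit`.
-/

set_option autoImplicit false
set_option linter.unusedSectionVars false

namespace Cfsg.Agent.Omega.IIa4

open Subgroup Cfsg Cfsg.Agent.ZN Cfsg.Agent.Omega.NatPair Cfsg.Agent.Omega.BTwo
open Cfsg.Agent.Omega.Frame Cfsg.Agent.Omega.FrameLE Cfsg.Agent.Omega.FrameFF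

universe u

variable {G : Type u} [Group G] [Finite G]

/-- conjugating a mutual pair -/
theorem mutual_smul {V U : Subgroup G} {h : G} (H : NatPair.Mutual (NatPair.cj h V) U) :
    NatPair.Mutual V (NatPair.cj h⁻¹ U) where
  le := by
    intro x hx
    rw [NatPair.mem_cj, inv_inv] at hx
    have h1 := H.le hx
    rw [mem_normalizer_iff] at h1 ⊢
    intro v
    have h2 := h1 (h * v * h⁻¹)
    rw [NatPair.mem_cj, NatPair.mem_cj] at h2
    have e1 : h⁻¹ * (h * v * h⁻¹) * h = v := by group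
    have e2 : h⁻¹ * (h * x * h⁻¹ * (h * v * h⁻¹) * (h * x * h⁻¹)⁻¹) * h = x * v * x⁻¹ := by group
    rwa [e1, e2] at h2
  le' := by
    intro v hv
    have h1 := H.le' (show h * v * h⁻¹ ∈ NatPair.cj h V by
      rw [NatPair.mem_cj]
      have : h⁻¹ * (h * v * h⁻¹) * h = v := by group
      rwa [this])
    rw [mem_normalizer_iff] at h1 ⊢
    intro x
    rw [NatPair.mem_cj, NatPair.mem_cj, inv_inv]
    have h2 := h1 (h * x * h⁻¹)
    have e2 : h * v * h⁻¹ * (h * x * h⁻¹) * (h * v * h⁻¹)⁻¹ = h * (v * x * v⁻¹) * h⁻¹ := by group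
    rwa [e2] at h2
  ne := by
    obtain ⟨v, hv, w, hw, hne⟩ := H.ne
    rw [NatPair.mem_cj] at hv
    refine ⟨_, hv, h⁻¹ * w * h, ?_, ?_⟩
    · rw [NatPair.mem_cj, inv_inv]
      have : h * (h⁻¹ * w * h) * h⁻¹ = w := by group
      rwa [this]
    · intro h1
      apply hne
      have h2 := congrArg (fun t => h * t * h⁻¹) h1
      have e1 : h * (h⁻¹ * v * h * (h⁻¹ * w * h)) * h⁻¹ = v * w := by group
      have e2 : h * (h⁻¹ * w * h * (h⁻¹ * v * h)) * h⁻¹ = w * v := by group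
      simp only [e1, e2] at h2
      exact h2

/-- `All.Mix` for a member `P'` of a mutual pair with one natural factor and `C_{V'}(O²(P')) = 1` -/
theorem mix_of {F : Type*} [Field F] [Finite F] [CharP F 2] (S : Sylow 2 G) {A : Subgroup G} (M : NatMod F A)
    {P' : Subgroup G} (hP : MinPar.IsParS (S : Subgroup G) P') (hs : Single (S : Subgroup G) P')
    (hf : Free (S : Subgroup G) P') (hU : zl (S : Subgroup G) P' ≤ (S : Subgroup G)) (hA : A ≤ (S : Subgroup G))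
    (h : NatPair.Mutual A (zl (S : Subgroup G) P')) : All.Mix (S : Subgroup G) (zl (S : Subgroup G) P') M := by
  obtain ⟨F', hF1, hF2, hF3, ⟨N⟩⟩ := hs
  rw [hf] at N
  have hSP : (S : Subgroup G) ≤ P' := hP.le
  have hPU : P' ≤ normalizer (zl (S : Subgroup G) P' : Set G) := MinSimple.VModule.le_normalizer_zl _ _
  obtain ⟨-, hcard, -, hlast⟩ := All.mixed_pair S M N hSP hPU (hU.trans hSP) (hA.trans hSP) h
  obtain ⟨-, w, w', hw, -, hl, -⟩ := All.mixed M (All.natOf N (hU.trans hSP) hPU) (hU.trans hSP) (hA.trans hSP) hPU h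
  refine ⟨w, hw.ne, hl, ?_, hcard, hlast⟩
  intro r hr
  rw [hl] at hr
  obtain ⟨a, ha, v, hv, hav⟩ := hw.comm' r⁻¹ (inv_mem hr)
  refine ⟨v, hv, a, ha, ?_⟩
  have e : v * a * v⁻¹ * a⁻¹ = (a * v * a⁻¹ * v⁻¹)⁻¹ := by group
  rw [e, hav, inv_inv]

/-- the point normalised by `S` -/
theorem exists_fixed {V : Subgroup G} {ι : Type*} {R : ι → Subgroup G} (b : BT V R) {S : Subgroup G}
    (hS : S ≤ normalizer (V : Set G)) {z : G} (hz : z ∈ V) (hz1 : z ≠ 1) (hc : ∀ s ∈ S, s * z = z * s) :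
    ∃ i, z ∈ R i ∧ S ≤ normalizer (R i : Set G) := by
  obtain ⟨i, hi⟩ := b.R_cov z hz
  refine ⟨i, hi, fun s hs => ?_⟩
  obtain ⟨k, hk⟩ := b.perm s (hS hs) i
  have h1 : z ∈ R k := by
    rw [← hk, BTwo.mem_cj]
    have h2 : s⁻¹ * z * s = z := by rw [mul_assoc, ← hc s hs]; group
    rwa [h2]
  by_cases hki : k = i
  · rw [hki] at hk
    exact cj_eq_self_iff.1 hk
  · exact absurd (b.eq_one hki h1 hi) hz1

variable {S : Sylow 2 G} {P : Subgroup G} {g : G} {F : Type} [Field F] [Finite F] [CharP F 2]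
  {M : NatMod F (zl (S : Subgroup G) P)}

/-- `zc S ≤ R i` for the point `R i` normalised by `S` -/
theorem Sit.zc_le_pt (h : Sit S P g M) {i : Pt M} (hi : (S : Subgroup G) ≤ normalizer (pt M i : Set G)) :
    zc (S : Subgroup G) ≤ pt M i := by
  obtain ⟨_, w, hw, rfl⟩ := i
  intro z hz
  have hz' := MinSimple.VModule.mem_zc.1 hz
  exact M.cent_le_of_sylow S h.le_N hw hi ⟨mem_centralizer_iff.2 fun s hs => hz'.2.1 s hs, h.zc_le hz⟩

/-- **the input of THEOREM ALL** -/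
theorem Sit.inp (h : Sit S P g M) {i : Pt M} (hi : (S : Subgroup G) ≤ normalizer (pt M i : Set G))
    (hsemi : SemiOut (zl (S : Subgroup G) P) (pt M)) (hcen : ∀ x ∈ WW (zl (S : Subgroup G) P) (pt M i),
      (∀ s ∈ (S : Subgroup G), s ∈ centralizer (pt M i : Set G) → s * x * s⁻¹ * x⁻¹ ∈ pt M i) →
        x ∈ zl (S : Subgroup G) P)
    (hti : ∀ g r : G, r ∈ pt M i → r ≠ 1 → g * r * g⁻¹ ∈ pt M i → g ∈ normalizer (pt M i : Set G)) :
    All.Inp (S : Subgroup G) (zl (S : Subgroup G) P) (pt M i) (WW (zl (S : Subgroup G) P) (pt M i)) where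
  allIn := h.allIn
  VS := (h.allIn P h.isParS).trans (All.o2_CZ_le S)
  SV := h.le_N
  comm := h.bt.V_comm
  RV := h.bt.R_le i
  SR := hi
  ZR := h.zc_le_pt hi
  ti := hti
  W_eq := (hsemi i).2.symm
  W_cen := fun w hw => by
    rw [mem_centralizer_iff]
    exact fun r hr => (h.bt.QR i w (h.bt.W_le_Q i hw) r hr).symm
  VW := fun x hx => BTwo.cj_le_WW hx
  W_gen := fun X hX => iSup_le fun x => hX x x.2
  WW := fun a ha b hb => h.bt.WW_comm i ha hb
  cenW := (hsemi i).1.le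
  line := hcen

open Pointwise in
/-- **`⟨N(V), N(R)⟩ = G`** (`IIa4.AllP`) -/
theorem Sit.genVR (h : Sit S P g M) (hsemi : SemiOut (zl (S : Subgroup G) P) (pt M))
    (hcen : ∀ (i : Pt M) (S₁ : Sylow 2 G), (S₁ : Subgroup G) ≤ normalizer (zl (S : Subgroup G) P : Set G) →
      (S₁ : Subgroup G) ≤ normalizer (pt M i : Set G) → ∀ x ∈ WW (zl (S : Subgroup G) P) (pt M i),
        (∀ s ∈ (S₁ : Subgroup G), s ∈ centralizer (pt M i : Set G) → s * x * s⁻¹ * x⁻¹ ∈ pt M i) →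
          x ∈ zl (S : Subgroup G) P)
    (hti : ∀ (i : Pt M) (g r : G), r ∈ pt M i → r ≠ 1 → g * r * g⁻¹ ∈ pt M i →
      g ∈ normalizer (pt M i : Set G)) (i : Pt M) {Y : Subgroup G}
    (hV : normalizer (zl (S : Subgroup G) P : Set G) ≤ Y) (hR : normalizer (pt M i : Set G) ≤ Y) : Y = ⊤ := by
  have hZ : zc (S : Subgroup G) ≠ ⊥ := by
    refine MinSimple.Basic.zc_ne_bot S.isPGroup' fun h0 => h.bt.R_ne i (eq_bot_iff.2 ?_)
    exact ((h.bt.R_le i).trans ((h.allIn P h.isParS).trans (All.o2_CZ_le S))).trans_eq h0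
  obtain ⟨z, hz1⟩ := Subgroup.ne_bot_iff_exists_ne_one.1 hZ
  have hz := MinSimple.VModule.mem_zc.1 z.2
  obtain ⟨i₀, -, hi₀⟩ := exists_fixed h.bt h.le_N (h.zc_le z.2) (fun h0 => hz1 (Subtype.ext h0)) hz.2.1
  have I := h.inp hi₀ hsemi (hcen i₀ S h.le_N hi₀) (hti i₀)
  -- the point `i₀` is conjugate to `i` under `N(V)`
  have hR₀ : normalizer (pt M i₀ : Set G) ≤ Y := by
    obtain ⟨x, hx, hxR⟩ := h.bt.trans_one i i₀
    rw [← hxR, BTwo.normalizer_cj, cj_le_iff]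
    intro y hy
    exact mul_mem (mul_mem (hV hx) (hR hy)) (inv_mem (hV hx))
  obtain ⟨w₀, hw₀, hw₀'⟩ := i₀.2
  rw [eq_top_iff, ← All.sup_eq_top S I h.ctx.char2 M (w₀ := w₀) hw₀' hZ ?_ h.full]
  · exact sup_le hR₀ hV
  · intro P' hP' x hx hxS hmut
    have hS' : zl (S : Subgroup G) P' ≤ (S : Subgroup G) := (h.allIn P' hP').trans (All.o2_CZ_le S)
    have hm' := mutual_smul hmut
    have hm : Mutual (S : Subgroup G) P P' x⁻¹ :=
      { star₁ := h.isParS
        star₂ := hP'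
        le₁ := hm'.le'
        le₂ := hm'.le
        ne := by
          obtain ⟨v, hv, w, hw, hne⟩ := hm'.ne
          intro h0
          apply hne
          have h1 := commutator_mem_commutator hv (show w ∈ MulAut.conj x⁻¹ • zl (S : Subgroup G) P' from hw)
          rw [h0, mem_bot, commutatorElement_eq_one_iff_mul_comm] at h1
          exact h1 }
    exact mix_of S (M.conj x) hP' (h.allFree.1 _ _ _ hm).2 (h.allFree.2 _ _ _ hm).2 hS' hxS hmut

end Cfsg.Agent.Omega.IIa4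

end

section


/-!
# II.a, `q ≥ 4`: `R` is a TI-set and `C_G(r) ≤ N_G(R)` (THEOREM TIR / F6 in the situation `Sit`)

`Sit.cen_le`, `Sit.tir`: the literal content of `IIa4.TIRP` (`Omega/Node/LeafA4.lean`).
-/

set_option autoImplicit false
set_option linter.unusedSectionVars false

namespace Cfsg.Agent.Omega.IIa4

open Subgroup Cfsg Cfsg.Agent.ZN Cfsg.Agent.Lib.SL2Mat Cfsg.Agent.Omega.NatPair Cfsg.Agent.Omega.BTwo
open Cfsg.Agent.Omega.Frame Cfsg.Agent.Omega.FrameLE Cfsg.Agent.Omega.FrameFF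

universe u

namespace Sit

variable {G : Type u} [Group G] [Finite G] {S : Sylow 2 G} {P : Subgroup G} {g : G} {F : Type} [Field F]
  [Finite F] [CharP F 2] {M : NatMod F (zl (S : Subgroup G) P)} (h : Sit S P g M)
include h

/-- a point containing a central involution of `S`, with `C_G(z) ≤ N_G(R)` -/
theorem exists_cen (hs : SemiOut (zl (S : Subgroup G) P) (pt M))
    (hC : ∀ (i : Pt M) (S₁ : Sylow 2 G), (S₁ : Subgroup G) ≤ normalizer (zl (S : Subgroup G) P : Set G) →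
      (S₁ : Subgroup G) ≤ normalizer (pt M i : Set G) →
      ∀ x ∈ WW (zl (S : Subgroup G) P) (pt M i), (∀ s ∈ (S₁ : Subgroup G), s ∈ centralizer (pt M i : Set G) →
        s * x * s⁻¹ * x⁻¹ ∈ pt M i) → x ∈ zl (S : Subgroup G) P) :
    ∃ (i : Pt M) (z : G), z ∈ pt M i ∧ z ≠ 1 ∧ centralizer {z} ≤ normalizer (pt M i : Set G) := by
  have b := h.btc
  have b' := h.bt
  have hS1 : (S : Subgroup G) ≠ ⊥ := h.ctx.sylow_ne_bot S
  obtain ⟨z, hz, hzS, hz2, hzc, hz1⟩ := exists_central S (T := (S : Subgroup G)) le_rfl le_normalizer hS1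
  have hzV : z ∈ zl (S : Subgroup G) P := h.cen_mem z hzS hz2 hzc
  obtain ⟨i, hi⟩ := b'.R_cov z hzV
  have hSR : (S : Subgroup G) ≤ normalizer (pt M i : Set G) := by
    intro s hs
    obtain ⟨k, hk⟩ := b'.perm s (h.le_N hs) i
    have h1 : z ∈ pt M k := by
      rw [← hk, BTwo.mem_cj, mul_assoc, ← hzc s hs, inv_mul_cancel_left]
      exact hi
    have h2 : k = i := by
      by_contra h3
      exact hz1 (b'.eq_one h3 h1 hi)
    rw [h2] at hk
    exact BTwo.cj_eq_self_iff.1 hk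
  have hzK : (S : Subgroup G) ≤ centralizer {z} := by
    intro s hs
    rw [mem_centralizer_iff]
    intro t ht
    rw [Set.mem_singleton_iff.1 ht]
    exact (hzc s hs).symm
  obtain ⟨j, hj, -⟩ := b'.third i i
  obtain ⟨v, w1, w2, c⟩ := h.exists_coord (Ne.symm hj)
  have hne : ZN.o2 (centralizer {z}) ≠ ⊥ := by
    intro h0
    apply hz1
    have h1 : zpowers z ≤ O2 (centralizer {z}) := by
      refine le_O2_of_normal ?_ ?_ ?_
      · rw [zpowers_le, mem_centralizer_iff]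
        intro t ht
        rw [Set.mem_singleton_iff.1 ht]
      · exact S.isPGroup'.to_le (zpowers_le.2 hzS)
      · intro g hg a ha
        obtain ⟨n, rfl⟩ := mem_zpowers_iff.1 ha
        have h2 : g * z = z * g := (mem_centralizer_iff.1 hg z (Set.mem_singleton _)).symm
        have h3 : g * z ^ n = z ^ n * g := (show Commute g z from h2).zpow_right n
        rw [h3, mul_inv_cancel_right]
        exact ha
    have h2 : z ∈ ZN.o2 (centralizer {z}) := h1 (mem_zpowers z)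
    rw [h0, mem_bot] at h2
    exact h2
  have hch := MinSimple.Basic.char2_of_o2_ne_bot h.ctx.char2 S hzK hne
  refine ⟨i, z, hi, hz1, ?_⟩
  refine (Cz.main c b' (Cz.not_UU_le b S (Ne.symm hj) h.le_N hSR) S h.le_N hSR hi hzK
    (fun g hg hgc => hch (mem_inf.2 ⟨hg, hgc⟩)) fun m hm hmt => ?_).2.2
  rw [(hs i).2] at hm
  exact hC i S h.le_N hSR m hm hmt

/-- `C_G(r) ≤ N_G(R)` for all points `R` and all `1 ≠ r ∈ R` -/
theorem cen_le (hs : SemiOut (zl (S : Subgroup G) P) (pt M))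
    (hC : ∀ (i : Pt M) (S₁ : Sylow 2 G), (S₁ : Subgroup G) ≤ normalizer (zl (S : Subgroup G) P : Set G) →
      (S₁ : Subgroup G) ≤ normalizer (pt M i : Set G) →
      ∀ x ∈ WW (zl (S : Subgroup G) P) (pt M i), (∀ s ∈ (S₁ : Subgroup G), s ∈ centralizer (pt M i : Set G) →
        s * x * s⁻¹ * x⁻¹ ∈ pt M i) → x ∈ zl (S : Subgroup G) P) :
    ∀ (i : Pt M), ∀ r ∈ pt M i, r ≠ 1 → centralizer {r} ≤ normalizer (pt M i : Set G) := by
  obtain ⟨i, z, hz, hz1, hzc⟩ := h.exists_cen hs hC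
  exact Cz.cen_le (fun i j hij => h.exists_coord hij) h.bt hz hz1 hzc

/-- **THEOREM TIR** -/
theorem tir (hs : SemiOut (zl (S : Subgroup G) P) (pt M))
    (hC : ∀ (i : Pt M) (S₁ : Sylow 2 G), (S₁ : Subgroup G) ≤ normalizer (zl (S : Subgroup G) P : Set G) →
      (S₁ : Subgroup G) ≤ normalizer (pt M i : Set G) →
      ∀ x ∈ WW (zl (S : Subgroup G) P) (pt M i), (∀ s ∈ (S₁ : Subgroup G), s ∈ centralizer (pt M i : Set G) →
        s * x * s⁻¹ * x⁻¹ ∈ pt M i) → x ∈ zl (S : Subgroup G) P) (i : Pt M) (g r : G) (hr : r ∈ pt M i)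
    (hr1 : r ≠ 1) (hg : g * r * g⁻¹ ∈ pt M i) : g ∈ normalizer (pt M i : Set G) := by
  obtain ⟨i', z, hz, hz1, hzc⟩ := h.exists_cen hs hC
  exact Cz.tir (fun i j hij => h.exists_coord hij) h.bt hz hz1 hzc i g r hr hr1 hg

end Sit

end Cfsg.Agent.Omega.IIa4

end

section


/-!
# Sylow subgroups of `G` in `N(V) ∩ N(R i)` for every point `R i`
-/

set_option autoImplicit false

universe u

namespace Cfsg.Agent.Omega.SQEnd

open Subgroup Cfsg Cfsg.Agent.ZN Cfsg.Agent.Omega.NatPair Cfsg.Agent.Omega.BTwo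
open Cfsg.Agent.Omega.Frame Cfsg.Agent.Omega.FrameFF Cfsg.Agent.Omega.IIa4

variable {G : Type u} [Group G] [Finite G]

open Pointwise in
/-- every point is normalised by a Sylow subgroup of `G` in `N(V)` -/
theorem exists_sylow {V : Subgroup G} {ι : Type*} {R : ι → Subgroup G} (b : BT V R) (S : Sylow 2 G)
    (hS : (S : Subgroup G) ≤ normalizer (V : Set G)) {z : G} (hz : z ∈ V) (hz1 : z ≠ 1)
    (hc : ∀ s ∈ (S : Subgroup G), s * z = z * s) (i : ι) :
    ∃ S₁ : Sylow 2 G, (S₁ : Subgroup G) ≤ normalizer (V : Set G) ∧ (S₁ : Subgroup G) ≤ normalizer (R i : Set G) := by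
  obtain ⟨i₀, -, h₀⟩ := exists_fixed b hS hz hz1 hc
  obtain ⟨x, hx, hxR⟩ := b.trans_one i₀ i
  have hcj : ((x • S : Sylow 2 G) : Subgroup G) = BTwo.cj x (S : Subgroup G) := by
    ext y
    rw [Sylow.coe_subgroup_smul, mem_pointwise_smul_iff_inv_smul_mem, ← map_inv, MulAut.smul_def,
      MulAut.conj_apply, inv_inv, BTwo.mem_cj]
  refine ⟨x • S, ?_, ?_⟩
  · rw [hcj]
    have := BTwo.cj_mono (g := x) hS
    rwa [← BTwo.normalizer_cj, cj_eq_self_iff.2 hx] at this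
  · rw [hcj, ← hxR, BTwo.normalizer_cj]
    exact BTwo.cj_mono h₀

/-- `|N(R) : N(V) ∩ N(R)|` is odd -/
theorem odd_relIndex {A B : Subgroup G} (S : Sylow 2 G) (hA : (S : Subgroup G) ≤ A) (hB : (S : Subgroup G) ≤ B) :
    Odd ((A ⊓ B).relIndex B) := by
  have h1 : ¬ 2 ∣ (S : Subgroup G).index := S.not_dvd_index
  have h2 : (A ⊓ B).relIndex B * B.index = (A ⊓ B).index := relIndex_mul_index inf_le_right
  have h3 : (S : Subgroup G).relIndex (A ⊓ B) * (A ⊓ B).index = (S : Subgroup G).index :=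
    relIndex_mul_index (le_inf hA hB)
  rw [← Nat.not_even_iff_odd, even_iff_two_dvd]
  intro h
  apply h1
  rw [← h3, ← h2]
  exact Dvd.dvd.mul_left (Dvd.dvd.mul_right h _) _

variable {S : Sylow 2 G} {P : Subgroup G} {g : G} {F : Type} [Field F] [Finite F] [CharP F 2]
  {M : NatMod F (zl (S : Subgroup G) P)}

theorem sit_exists_sylow (h : Sit S P g M) (i : Pt M) : ∃ S₁ : Sylow 2 G,
    (S₁ : Subgroup G) ≤ normalizer (zl (S : Subgroup G) P : Set G) ∧
      (S₁ : Subgroup G) ≤ normalizer (pt M i : Set G) := by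
  have hZ : zc (S : Subgroup G) ≠ ⊥ := by
    refine MinSimple.Basic.zc_ne_bot S.isPGroup' fun h0 => h.bt.R_ne i (eq_bot_iff.2 ?_)
    exact ((h.bt.R_le i).trans ((h.allIn P h.isParS).trans (All.o2_CZ_le S))).trans_eq h0
  obtain ⟨z, hz1⟩ := Subgroup.ne_bot_iff_exists_ne_one.1 hZ
  have hz := MinSimple.VModule.mem_zc.1 z.2
  exact SQEnd.exists_sylow h.bt S h.le_N (h.zc_le z.2) (fun h0 => hz1 (Subtype.ext h0)) hz.2.1 i

end Cfsg.Agent.Omega.SQEnd

end

end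

-- merged: Cfsg.Agent.Mrg.Omega.IIa4.Lay
section

section


/-!
# II.a, `q ≥ 4`: the layer of `H = N(R i)/O₂(N(R i))` (interface; output of NODE LIE, LAYER)

`Lay V R i j T S` : `A = AA V R i j` centralises the odd part of `H⁰ = C(R i)/O₂`, and every component `K ≤ H⁰` with
`[K, A] ≠ 1` is of Lie type of characteristic 2, is normalised by `T`, and `A` acts on it as `A ⊓ K` (`CompB.Hyp`).
-/

set_option autoImplicit false
set_option linter.unusedSectionVars false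

namespace Cfsg.Agent.Omega.IIa4

open Subgroup Cfsg Cfsg.Agent.ZN Cfsg.Agent.Omega.NatPair Cfsg.Agent.Omega.BTwo
open Cfsg.Agent.Omega.Frame Cfsg.Agent.Omega.FrameFF Cfsg.Agent.Omega.Lie Cfsg.Agent.Omega.Lie.Quot

universe u

/-- the components `K ≤ H⁰` moved by `A` -/
def MComp {G : Type*} [Group G] {ι : Type*} (V : Subgroup G) (R : ι → Subgroup G) (i j : ι)
    (K : Subgroup (HQ (R i))) : Prop :=
  IsComponent K ∧ K ≤ H0 R i ∧ ∃ a ∈ AA V R i j, ∃ k ∈ K, a * k ≠ k * a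

/-- **LAYER.** -/
structure Lay {G : Type*} [Group G] {ι : Type*} (V : Subgroup G) (R : ι → Subgroup G) (i j : ι)
    (T S : Subgroup (HQ (R i))) : Prop where
  odd : Layer.OddC V R i j
  hyp : ∀ K : Subgroup (HQ (R i)), MComp V R i j K → CompB.Hyp S (AA V R i j) T K
  lie : ∀ K : Subgroup (HQ (R i)), MComp V R i j K → IsLieTypeChar 2 (K ⧸ center K)

/-- LAYER at every pair of points -/
def LayAll {G : Type u} [Group G] {ι : Type*} (V : Subgroup G) (R : ι → Subgroup G) (F : Type) [Field F] : Prop :=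
  ∀ (i j : ι), i ≠ j → ∀ (v : F → F → G) (w1 w2 : F → G) (t : F → G), Coord V R i j v w1 w2 →
    ∀ (τ : TorD V R i j v t) (S₁ : Sylow 2 G), (S₁ : Subgroup G) ≤ normalizer (V : Set G) →
      (S₁ : Subgroup G) ≤ normalizer (R i : Set G) → Lay V R i j (TT τ) (SS R i S₁)

/-- a component has centre of odd order if `O₂(H) = 1` -/
theorem center_eq_one {H : Type*} [Group H] [Finite H] (hO : pCore 2 H = ⊥) {K : Subgroup H}
    (hK : IsComponent K) {x : H} (hx : x ∈ K) (hc : ∀ y ∈ K, x * y = y * x) (h2 : x * x = 1) : x = 1 := by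
  have hfact : Fact (Nat.Prime 2) := ⟨Nat.prime_two⟩
  let Z : Subgroup K := zpowers ⟨x, hx⟩
  have h1 : (⟨x, hx⟩ : K) ∈ center K := by
    rw [mem_center_iff]
    intro y
    exact Subtype.ext (hc y y.2).symm
  have hZc : Z ≤ center K := zpowers_le.2 h1
  have hZn : Z.Normal := ⟨fun z hz y => by
    have h1 := mem_center_iff.1 (hZc hz) y
    have h2 : y * z * y⁻¹ = z := by rw [h1]; group
    rwa [h2]⟩
  have hZp : IsPGroup 2 Z := by
    rw [IsPGroup.iff_card]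
    have h2 : Nat.card Z ∣ 2 := by
      rw [Nat.card_zpowers]
      exact orderOf_dvd_of_pow_eq_one (by rw [pow_two]; exact Subtype.ext h2)
    rcases (Nat.dvd_prime Nat.prime_two).1 h2 with h3 | h3
    · exact ⟨0, by rw [h3, pow_zero]⟩
    · exact ⟨1, by rw [h3, pow_one]⟩
  have hZs : (Z.map K.subtype).IsSubnormal := (Normal.isSubnormal hZn).trans' hK.1
  have h2 := SignalizersComponents.CompBasic.subnormal_pGroup_le_pCore hZs (hZp.map K.subtype)
  rw [hO] at h2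
  exact h2 ⟨⟨x, hx⟩, mem_zpowers _, rfl⟩

namespace Lay

variable {G : Type u} [Group G] {ι : Type*} {V : Subgroup G} {R : ι → Subgroup G} {i j : ι}
  {T S : Subgroup (HQ (R i))} (h : Lay V R i j T S)
include h

theorem innC : Layer.InnC V R i j := by
  intro K hK hK0
  by_cases hne : ∃ a ∈ AA V R i j, ∃ k ∈ K, a * k ≠ k * a
  · exact Layer.InnA.of_hyp (h.hyp K ⟨hK, hK0, hne⟩)
  · push Not at hne
    exact Layer.InnA.of_comm hne

/-- the normal closure of `A` is perfect -/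
theorem perf [Finite G] (b : BT V R) (hij : i ≠ j) : Perf V R i j :=
  Layer.perf_of b hij h.odd h.innC

theorem A_le [Finite G] (b : BT V R) (hij : i ≠ j) :
    AA V R i j ≤ ⨆ K ∈ {K : Subgroup (HQ (R i)) | MComp V R i j K}, AA V R i j ⊓ K := by
  refine (Layer.A_le_iSup b hij h.odd h.innC).trans (iSup₂_le fun K hK => ?_)
  by_cases hne : ∃ a ∈ AA V R i j, ∃ k ∈ K, a * k ≠ k * a
  · exact le_iSup₂ (f := fun (K : Subgroup (HQ (R i))) (_ : K ∈ {K : Subgroup (HQ (R i)) | MComp V R i j K}) =>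
      AA V R i j ⊓ K) K ⟨hK.1, hK.2, hne⟩
  · have h1 : AA V R i j ⊓ K = ⊥ := by
      rw [eq_bot_iff]
      intro x hx
      push Not at hne
      exact center_eq_one (pCore_HQ (R i)) hK.1 hx.2 (fun y hy => hne x hx.1 y hy) (A_sq b hij hx.1)
    rw [h1]
    exact bot_le

end Lay

end Cfsg.Agent.Omega.IIa4

end

section


/-!
# The leaf II.a, `q ≥ 4` (`FrameFF.LeafA4 K`) from its parts (project OMEGA, assembler: helper978)

Situation: `IIa4.Sit S P g M`, i.e. `Ctx G`, `Full S`, `AllIn S`, `AllFree S`, `MinSame S P g`, `V = V_P = zl S P`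
natural for `SL₂(F)` (`M : NatMod F V`), `|F| ≥ 4`.  `R i = pt M i` the points of `V`, `W i = ⟨V^{N(R i)}⟩`,
`Q i = O₂(N(R i))`, `U i = C_{W i}(V)`, `A = U j Q i / Q i`.

Landed and plugged in: `b = 2` (`IIa4.Sit.V_le_QQ`), the structure `BTC` (`IIa4.Sit.btc`), coordinates, torus,
`Coord.semi` (#11043).

Parts (each a Prop):
* `LayP K` : the layer of `N(R)/O₂(N(R))` (`IIa4.Lay`; the component theorem);
* `SEP K` : `C_{W/R}(S₁ ∩ C(R)) = V/R`;
* `TIRP` : `R` is a TI-set (THEOREM TIR, K-free): proved by helper450, `IIa4.tirp` (`IIa4/Tirp.lean`);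
* `AllP` : `⟨N(V), N(R)⟩ = G` (THEOREM ALL, K-free): proved, `allP`;
* `LieBNP K` : a subgroup `G₀ ≠ 1` with a BN-pair, normalised by `N(V)` and `N(R)` (or `G` is known).

`leafA4_of` : `LeafA4 K` from S1143, S1144 and these; `Node/LeafA4Main.lean` has the version without `TIRP`.
-/

set_option autoImplicit false
set_option linter.unusedSectionVars false

namespace Cfsg.Agent.Omega.IIa4

open Subgroup Cfsg Cfsg.Agent.ZN Cfsg.Agent.Omega.NatPair Cfsg.Agent.Omega.BTwo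
open Cfsg.Agent.Omega.Frame Cfsg.Agent.Omega.FrameFF

universe u

/-! ### Predicates of the configuration -/

/-- `R i` is a TI-set: `1 ≠ r ∈ R i`, `r^g ∈ R i` imply `g ∈ N(R i)` -/
def TIR {G : Type*} [Group G] {ι : Type*} (R : ι → Subgroup G) : Prop :=
  ∀ (i : ι) (g r : G), r ∈ R i → r ≠ 1 → g * r * g⁻¹ ∈ R i → g ∈ normalizer (R i : Set G)

/-- `C_{W/R}(S₁ ∩ C(R)) = V/R` for the Sylow 2-subgroups `S₁` of `G` in `N(V) ∩ N(R)` -/
def CenSE {G : Type*} [Group G] {ι : Type*} (V : Subgroup G) (R : ι → Subgroup G) : Prop :=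
  ∀ (i : ι) (S₁ : Sylow 2 G), (S₁ : Subgroup G) ≤ normalizer (V : Set G) →
    (S₁ : Subgroup G) ≤ normalizer (R i : Set G) →
    ∀ x ∈ WW V (R i), (∀ s ∈ (S₁ : Subgroup G), s ∈ centralizer (R i : Set G) → s * x * s⁻¹ * x⁻¹ ∈ R i) → x ∈ V

/-- `N(V)` and `N(R i)` generate `G` -/
def GenVR {G : Type*} [Group G] {ι : Type*} (V : Subgroup G) (R : ι → Subgroup G) : Prop :=
  ∀ (i : ι) (Y : Subgroup G), normalizer (V : Set G) ≤ Y → normalizer (R i : Set G) ≤ Y → Y = ⊤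

/-- a BN-pair as needed in S1143 or S1144 -/
def HasBN (X : Type*) [Group X] : Prop :=
  (∃ B : BNPair X, 3 ≤ B.rank ∧ B.Irreducible) ∨ ∃ B : BNPair X, 1 ≤ B.rank ∧ B.IsSplit

/-- a subgroup `G₀ ≠ 1` with a BN-pair normalised by `N(V)` and `N(R i)` -/
def GZero {G : Type*} [Group G] {ι : Type*} (V : Subgroup G) (R : ι → Subgroup G) : Prop :=
  ∃ (i : ι) (G₀ : Subgroup G), G₀ ≠ ⊥ ∧ normalizer (V : Set G) ≤ normalizer (G₀ : Set G) ∧
    normalizer (R i : Set G) ≤ normalizer (G₀ : Set G) ∧ HasBN ↥G₀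

/-! ### The parts -/

section parts

variable (K : Cls.{u})

/-- **LAYER** (the component theorem).
Text: #11541 (2)-(5) with #12957, #13121 (`q ≥ 8`); #12098, #12707, #12397 (`q = 4`).  Assembly: helper287
(`Omega/Lie/Layer*.lean`), with helper452 (Quot), 484 (Exo), 843, 932 (odd part), 835, 898 (T2), 460 (LQ). -/
def LayP : Prop :=
  ∀ (G : Type u) [Group G] [Finite G], K G → ∀ (S : Sylow 2 G) (P : Subgroup G) (g : G) (F : Type) [Field F]
    [Finite F] [CharP F 2] (M : NatMod F (zl (S : Subgroup G) P)), Sit S P g M →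
      LayAll (zl (S : Subgroup G) P) (pt M) F

/-- **`C_M(S_E) = e`** : `C_{W/R}(S₁ ∩ C(R)) = V/R`.
Text: LEMMA CEN #14596 (helper95), THEOREM D #15015 (helper407).  Owner: helper95 (`Omega/Lie/SE.lean`), helper407
(`Omega/Lie/ThmD.lean`). -/
def SEP : Prop :=
  ∀ (G : Type u) [Group G] [Finite G], K G → ∀ (S : Sylow 2 G) (P : Subgroup G) (g : G) (F : Type) [Field F]
    [Finite F] [CharP F 2] (M : NatMod F (zl (S : Subgroup G) P)), Sit S P g M →
      LayAll (zl (S : Subgroup G) P) (pt M) F →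
      SemiOut (zl (S : Subgroup G) P) (pt M) → CenSE (zl (S : Subgroup G) P) (pt M)

/-- **THEOREM TIR** (K-free): `R` is a TI-set.  Text: #13229 (helper522), #13299 (helper450).
Owner: helper450 (`Omega/BTwo/Cz.lean`), helper522. -/
def TIRP : Prop :=
  ∀ (G : Type u) [Group G] [Finite G] (S : Sylow 2 G) (P : Subgroup G) (g : G) (F : Type) [Field F]
    [Finite F] [CharP F 2] (M : NatMod F (zl (S : Subgroup G) P)), Sit S P g M →
      SemiOut (zl (S : Subgroup G) P) (pt M) → CenSE (zl (S : Subgroup G) P) (pt M) → TIR (pt M)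

/-- **THEOREM ALL** (K-free): every `P' ∈ P(S)` lies in `N(R)` or in `N(V)`, so `⟨N(V), N(R)⟩ = G`.
Text: #13114 (helper47), #13498 (helper221).  Proved: `allP`. -/
def AllP : Prop :=
  ∀ (G : Type u) [Group G] [Finite G] (S : Sylow 2 G) (P : Subgroup G) (g : G) (F : Type) [Field F]
    [Finite F] [CharP F 2] (M : NatMod F (zl (S : Subgroup G) P)), Sit S P g M →
      SemiOut (zl (S : Subgroup G) P) (pt M) → CenSE (zl (S : Subgroup G) P) (pt M) → TIR (pt M) →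
      GenVR (zl (S : Subgroup G) P) (pt M)

/-- **The BN-pair of `G₀`**.  Text: NODE THEOREM #14331 (helper493), architecture #14551 (helper43): THEOREM PAR
(`ParSys/PSysMain.lean`); rank two end: `SQEnd` (helper326, 195; `|k| = 4`: `G` is known). -/
def LieBNP : Prop :=
  ∀ (G : Type u) [Group G] [Finite G], K G → ∀ (S : Sylow 2 G) (P : Subgroup G) (g : G) (F : Type) [Field F]
    [Finite F] [CharP F 2] (M : NatMod F (zl (S : Subgroup G) P)), Sit S P g M →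
      LayAll (zl (S : Subgroup G) P) (pt M) F →
      SemiOut (zl (S : Subgroup G) P) (pt M) → CenSE (zl (S : Subgroup G) P) (pt M) → TIR (pt M) →
      GZero (zl (S : Subgroup G) P) (pt M) ∨ IsKnownSimple' G

end parts

/-! ### The glue -/

namespace Sit

variable {G : Type u} [Group G] [Finite G] {S : Sylow 2 G} {P : Subgroup G} {g : G} {F : Type} [Field F]
  [Finite F] [CharP F 2] {M : NatMod F (zl (S : Subgroup G) P)} (h : Sit S P g M)
include h

/-- the point normalised by `S` -/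
theorem exists_pt : ∃ i : Pt M, (S : Subgroup G) ≤ normalizer (pt M i : Set G) := by
  obtain ⟨i, -, -⟩ := h.exists_pair
  have hZ : zc (S : Subgroup G) ≠ ⊥ := by
    refine MinSimple.Basic.zc_ne_bot S.isPGroup' fun h0 => h.bt.R_ne i (eq_bot_iff.2 ?_)
    exact ((h.bt.R_le i).trans ((h.allIn P h.isParS).trans (All.o2_CZ_le S))).trans_eq h0
  obtain ⟨z, hz1⟩ := Subgroup.ne_bot_iff_exists_ne_one.1 hZ
  have hz := MinSimple.VModule.mem_zc.1 z.2
  obtain ⟨i₀, -, hi₀⟩ := exists_fixed h.bt h.le_N (h.zc_le z.2) (fun h0 => hz1 (Subtype.ext h0)) hz.2.1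
  exact ⟨i₀, hi₀⟩

theorem exists_ne_pt (i : Pt M) : ∃ j : Pt M, i ≠ j := by
  obtain ⟨i', j', hij⟩ := h.exists_pair
  by_cases h1 : i = i'
  · exact ⟨j', h1 ▸ hij⟩
  · exact ⟨i', h1⟩

theorem perf_of_lay (hl : LayAll (zl (S : Subgroup G) P) (pt M) F) :
    ∃ i j : Pt M, i ≠ j ∧ Perf (zl (S : Subgroup G) P) (pt M) i j := by
  obtain ⟨i, hR⟩ := h.exists_pt
  obtain ⟨j, hij⟩ := h.exists_ne_pt i
  obtain ⟨v, w1, w2, c⟩ := h.exists_coord hij
  obtain ⟨t, τ⟩ := h.exists_torD c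
  exact ⟨i, j, hij, (hl i j hij v w1 w2 t c τ S h.le_N hR).perf h.bt hij⟩

theorem semi_of_lay (hl : LayAll (zl (S : Subgroup G) P) (pt M) F) :
    SemiOut (zl (S : Subgroup G) P) (pt M) := by
  obtain ⟨i, j, hij, hp⟩ := h.perf_of_lay hl
  exact h.semi hij hp

end Sit

/-- THEOREM ALL, from helper221's `All.sup_eq_top` and helper942's `All.mixed` -/
theorem allP : AllP.{u} := by
  intro G _ _ S P g F _ _ _ M h hsemi hcen hti i Y hV hR
  exact h.genVR hsemi hcen hti i hV hR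

/-- A simple group with a BN-pair is known. -/
theorem known_of_hasBN (h43 : Exits.St1143.{u}) (h44 : Exits.St1144.{u}) {X : Type u} [Group X] [Finite X]
    [IsSimpleGroup X] (h : HasBN X) : IsKnownSimple' X := by
  rcases h with ⟨B, h1, h2⟩ | ⟨B, h1, h2⟩
  · exact Exits.known_lie (h43 X B h1 h2)
  · exact Exits.known_lie (h44 X B h1 h2)

theorem known_of_gZero (h43 : Exits.St1143.{u}) (h44 : Exits.St1144.{u}) {G : Type u} [Group G] [Finite G]
    (hG : Ctx G) {ι : Type*} {V : Subgroup G} {R : ι → Subgroup G} (hgen : GenVR V R) (h : GZero V R) :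
    IsKnownSimple' G := by
  have hs := hG.simple
  obtain ⟨i, G₀, hne, h1, h2, hBN⟩ := h
  have h3 : G₀.Normal := normalizer_eq_top_iff.mp (hgen i _ h1 h2)
  have h4 : G₀ = ⊤ := h3.eq_bot_or_eq_top.resolve_left hne
  have e : ↥G₀ ≃* G := (MulEquiv.subgroupCongr h4).trans Subgroup.topEquiv
  have hs' : IsSimpleGroup ↥G₀ := OddHalf.Known.isSimple_congr e.symm hs
  exact OddHalf.Known.isKnownSimple'_congr e (Exits.not_comm_congr e.symm hG.nonComm)
    (known_of_hasBN h43 h44 hBN)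

/-- **The leaf II.a, `q ≥ 4`.** -/
theorem leafA4_of {K : Cls.{u}} (h43 : Exits.St1143.{u}) (h44 : Exits.St1144.{u}) (hlay : LayP K)
    (hse : SEP K) (htir : TIRP.{u}) (hbn : LieBNP K) : LeafA4 K := by
  intro G _ _ hG hK S hF hLE hAF P g hmin F _ _ _ M h4
  have h : Sit S P g M := ⟨hG, hF, hLE, hAF, hmin, h4⟩
  have hl := hlay G hK S P g F M h
  have hsemi := h.semi_of_lay hl
  have hcen := hse G hK S P g F M h hl hsemi
  have hti := htir G S P g F M h hsemi hcen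
  rcases hbn G hK S P g F M h hl hsemi hcen hti with h1 | h1
  · exact known_of_gZero h43 h44 hG (allP G S P g F M h hsemi hcen hti) h1
  · exact h1

end Cfsg.Agent.Omega.IIa4

end

section


/-!
# II.a, `q ≥ 4`: LEMMA CA (`C_M(A) = e`)

`P₀` a 2-group with `Y ≤ P₀ ≤ C(V)`; `M = W i / R i`, `e = V / R i`, `A` the image of `U j`.  If `C_M(P₀) = e`
then `C_M(A) = e`:  `x ∈ W i`, `[U j, x] ≤ R i` imply `x ∈ V`.
-/

set_option autoImplicit false
set_option linter.unusedSectionVars false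

namespace Cfsg.Agent.Omega.IIa4.CenA

open Subgroup Cfsg.Agent.Omega.BTwo Cfsg.Agent.Omega.Lie

universe u v w

section cop

variable {G : Type u} [Group G]

/-- an abelian group `T` of odd order stabilising a coset `p Y` of a 2-group `Y` centralises an element of it -/
theorem exists_cen_coset [Finite G] {T Y : Subgroup G} (hT : ∀ a ∈ T, ∀ b ∈ T, a * b = b * a)
    (hTY : T ≤ normalizer (Y : Set G)) (ho : ∀ a ∈ T, Odd (orderOf a)) (hY : IsPGroup 2 Y) (p : G)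
    (hp : ∀ a ∈ T, p⁻¹ * (a * p * a⁻¹) ∈ Y) : ∃ c, p⁻¹ * c ∈ Y ∧ ∀ a ∈ T, a * c = c * a := by
  classical
  let S : Set (Subgroup G) := {B | B ≤ T ∧ ∃ c, p⁻¹ * c ∈ Y ∧ ∀ a ∈ B, a * c = c * a}
  have hne : S.Nonempty := ⟨⊥, bot_le, p, by rw [inv_mul_cancel]; exact one_mem _, fun a ha => by
    rw [mem_bot.1 ha, one_mul, mul_one]⟩
  obtain ⟨B, hB⟩ := (Set.toFinite S).exists_maximal hne
  obtain ⟨⟨hBT, c, hc, hcB⟩, hmax⟩ := hB
  suffices h : ∀ a ∈ T, a ∈ B from ⟨c, hc, fun a ha => hcB a (h a ha)⟩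
  refine Lib.CoprimeCommutator.induction_prime_power T (· ∈ B) (one_mem _)
    (fun a _ b _ h1 h2 => mul_mem h1 h2) ?_
  intro r n hr a ha hpow
  have hfr : Fact r.Prime := ⟨hr⟩
  by_cases ha1 : a = 1
  · rw [ha1]; exact one_mem _
  have hr2 : r ≠ 2 := by
    rintro rfl
    obtain ⟨k, -, hk⟩ := (Nat.dvd_prime_pow Nat.prime_two).1 (orderOf_dvd_of_pow_eq_one hpow)
    have h1 := ho a ha
    rw [hk] at h1
    rcases Nat.eq_zero_or_pos k with h0 | h0
    · rw [h0, pow_zero, orderOf_eq_one_iff] at hk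
      exact ha1 hk
    · have h2 : Even (2 ^ k) := (Nat.even_pow.2 ⟨even_two, h0.ne'⟩)
      exact (Nat.not_odd_iff_even.2 h2) h1
  have hN : IsPGroup 2 (Y ⊓ centralizer (B : Set G) : Subgroup G) := hY.to_le inf_le_left
  have hPg : IsPGroup r (zpowers a) := by
    rintro ⟨x, hx⟩
    obtain ⟨k, rfl⟩ := mem_zpowers_iff.1 hx
    refine ⟨n, Subtype.ext ?_⟩
    change (a ^ k) ^ r ^ n = 1
    rw [← zpow_natCast, ← zpow_mul, mul_comm, zpow_mul, zpow_natCast, hpow, one_zpow]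
  have hTC : T ≤ normalizer (Y ⊓ centralizer (B : Set G) : Subgroup G) := by
    intro t ht
    rw [← cj_eq_self_iff, cj_inf, cj_eq_self_iff.2 (hTY ht)]
    congr 1
    rw [cj_of_mem]
    rw [mem_centralizer_iff]
    exact fun b hb => hT b (hBT hb) t ht
  have hcT : ∀ a ∈ T, c⁻¹ * (a * c * a⁻¹) ∈ Y := by
    intro a ha
    have h1 := hp a ha
    have h2 := conj_mem_of_normalizer (hTY ha) hc
    have e : c⁻¹ * (a * c * a⁻¹) = (p⁻¹ * c)⁻¹ * (p⁻¹ * (a * p * a⁻¹)) * (a * (p⁻¹ * c) * a⁻¹) := by group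
    rw [e]
    exact mul_mem (mul_mem (inv_mem hc) h1) h2
  obtain ⟨d, hd, hcd⟩ := Lib.CoprimeCommutator.exists_fixed_in_coset r (zpowers a)
    (Y ⊓ centralizer (B : Set G)) hPg ((zpowers_le.2 ha).trans hTC) (by
      obtain ⟨m, hm⟩ := IsPGroup.iff_card.1 hN
      rw [hm]
      exact fun h => hr2 ((Nat.prime_dvd_prime_iff_eq hr Nat.prime_two).1 (hr.dvd_of_dvd_pow h))) c (by
      intro x hx
      have hxT := (zpowers_le.2 ha) hx
      refine mem_inf.2 ⟨hcT x hxT, ?_⟩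
      have hcC : c ∈ centralizer (B : Set G) := mem_centralizer_iff.2 hcB
      have hxC : x ∈ centralizer (B : Set G) := mem_centralizer_iff.2 fun b hb => hT b (hBT hb) x hxT
      exact mul_mem (inv_mem hcC) (mul_mem (mul_mem hxC hcC) (inv_mem hxC)))
  have hcC : c ∈ centralizer (B : Set G) := mem_centralizer_iff.2 hcB
  have hdC : d ∈ centralizer (B : Set G) := by
    have h1 := mul_mem hcC (mem_inf.1 hcd).2
    rwa [mul_inv_cancel_left] at h1
  have hin : B ⊔ zpowers a ∈ S := by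
    refine ⟨sup_le hBT (zpowers_le.2 ha), d, ?_, ?_⟩
    · have h1 := mul_mem hc (mem_inf.1 hcd).1
      rwa [mul_assoc, mul_inv_cancel_left] at h1
    · have h1 : B ⊔ zpowers a ≤ centralizer {d} := by
        refine sup_le (fun b hb => ?_) (fun b hb => ?_)
        · rw [mem_centralizer_iff]
          rintro _ rfl
          exact (mem_centralizer_iff.1 hdC b hb).symm
        · rw [mem_centralizer_iff]
          rintro _ rfl
          exact (mem_centralizer_iff.1 hd b hb).symm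
      exact fun b hb => (mem_centralizer_iff.1 (h1 hb) d rfl).symm
  exact hmax hin le_sup_left (mem_sup_right (mem_zpowers a))

end cop

variable {G : Type u} [Group G] {ι : Type w} {F : Type v} [Field F] {V : Subgroup G} {R : ι → Subgroup G}
  {i j : ι} {v : F → F → G} {w1 w2 : F → G} {t : F → G}

/-- `[c, x]` -/
def kp (c x : G) : G := c * x * c⁻¹ * x⁻¹

theorem kp_mul {c x y : G} : kp c (x * y) = kp c x * (x * kp c y * x⁻¹) := by unfold kp; group

theorem kp_mul_left {c d x : G} : kp (c * d) x = c * kp d x * c⁻¹ * kp c x := by unfold kp; group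

theorem kp_conj {g c x : G} : kp c (g * x * g⁻¹) = g * kp (g⁻¹ * c * g) x * g⁻¹ := by unfold kp; group

theorem kp_conj' {g c x : G} : kp (g * c * g⁻¹) (g * x * g⁻¹) = g * kp c x * g⁻¹ := by unfold kp; group

/-- `{x ∈ Y : [P₀, x] ≤ V}` -/
def YP (b : BT V R) (P₀ : Subgroup G) : Subgroup G where
  carrier := {x | x ∈ YY V R ∧ ∀ c ∈ P₀, kp c x ∈ V}
  one_mem' := ⟨one_mem _, fun c _ => by
    have e : kp c 1 = 1 := by unfold kp; group
    rw [e]; exact one_mem _⟩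
  mul_mem' := by
    rintro x y ⟨hx, hx'⟩ ⟨hy, hy'⟩
    refine ⟨mul_mem hx hy, fun c hc => ?_⟩
    rw [kp_mul]
    exact mul_mem (hx' c hc) (conj_mem_of_normalizer (Y_le_NV hx) (hy' c hc))
  inv_mem' := by
    have _ := b
    rintro x ⟨hx, hx'⟩
    refine ⟨inv_mem hx, fun c hc => ?_⟩
    have e : kp c x⁻¹ = x⁻¹ * (kp c x)⁻¹ * x := by unfold kp; group
    rw [e]
    exact conj_inv_mem_of_normalizer (Y_le_NV hx) (inv_mem (hx' c hc))

/-- `{x ∈ U k : [Y, x] ≤ R k}` -/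
def CY (b : BT V R) (k : ι) : Subgroup G where
  carrier := {x | x ∈ UU V R k ∧ ∀ y ∈ YY V R, kp y x ∈ R k}
  one_mem' := ⟨one_mem _, fun c _ => by
    have e : kp c 1 = 1 := by unfold kp; group
    rw [e]; exact one_mem _⟩
  mul_mem' := by
    rintro x y ⟨hx, hx'⟩ ⟨hy, hy'⟩
    refine ⟨mul_mem hx hy, fun c hc => ?_⟩
    rw [kp_mul]
    exact mul_mem (hx' c hc) (conj_mem_of_normalizer (b.cen_le_N k (UU_le_cen k hx)) (hy' c hc))
  inv_mem' := by
    rintro x ⟨hx, hx'⟩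
    refine ⟨inv_mem hx, fun c hc => ?_⟩
    have e : kp c x⁻¹ = x⁻¹ * (kp c x)⁻¹ * x := by unfold kp; group
    rw [e]
    exact conj_inv_mem_of_normalizer (b.cen_le_N k (UU_le_cen k hx)) (inv_mem (hx' c hc))

section basic

variable (b : BT V R) {P₀ : Subgroup G}

theorem mem_YP {x : G} : x ∈ YP b P₀ ↔ x ∈ YY V R ∧ ∀ c ∈ P₀, kp c x ∈ V := Iff.rfl

theorem mem_CY {k : ι} {x : G} : x ∈ CY b k ↔ x ∈ UU V R k ∧ ∀ y ∈ YY V R, kp y x ∈ R k := Iff.rfl

theorem CY_conj {g : G} (hg : g ∈ normalizer (V : Set G)) {k l : ι} (h : cj g (R k) = R l) {x : G}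
    (hx : x ∈ CY b k) : g * x * g⁻¹ ∈ CY b l := by
  refine ⟨?_, fun y hy => ?_⟩
  · rw [← b.cj_UU hg h]; exact conj_mem_cj hx.1
  · rw [kp_conj, ← h]
    exact conj_mem_cj (hx.2 _ (conj_inv_mem_of_normalizer (b.NV_le_NY hg) hy))

theorem V_le_CY (k : ι) : V ≤ CY b k := fun x hx => by
  refine ⟨b.D_le_U k (V_le_D V R hx), fun y hy => ?_⟩
  have e : kp y x = 1 := by
    unfold kp
    rw [← mem_centralizer_iff.1 (YY_le_cen hy) x hx]; group
  rw [e]; exact one_mem _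

theorem YP_conj (hP : P₀ ≤ centralizer (V : Set G)) (hY : YY V R ≤ P₀) {g : G} (hg : g ∈ XX V R) {x : G}
    (hx : x ∈ YP b P₀) : g * x * g⁻¹ ∈ YP b P₀ := by
  have hgV := b.X_le_NV hg
  refine ⟨conj_mem_of_normalizer (b.NV_le_NY hgV) hx.1, fun c hc => ?_⟩
  rw [kp_conj]
  exact conj_mem_of_normalizer hgV (hx.2 _ (conj_inv_mem_of_normalizer (X_le_N b hP hY hg) hc))

theorem V_le_YP (hP : P₀ ≤ centralizer (V : Set G)) : V ≤ YP b P₀ := fun x hx => by
  refine ⟨b.D_le_Y (V_le_D V R hx), fun c hc => ?_⟩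
  have e : kp c x = 1 := by
    unfold kp
    rw [← mem_centralizer_iff.1 (hP hc) x hx]; group
  rw [e]; exact one_mem _

theorem kp_V (hP : P₀ ≤ centralizer (V : Set G)) {c x : G} (hc : c ∈ P₀) (hx : x ∈ V) : kp c x = 1 := by
  unfold kp
  rw [← mem_centralizer_iff.1 (hP hc) x hx]; group

/-- `[c, x y] = [c, x] [c, y]` -/
theorem kmul {c x y : G} (hc : c ∈ P₀) (hx : x ∈ YP b P₀) (hy : y ∈ YP b P₀) :
    kp c (x * y) = kp c x * kp c y := by
  rw [kp_mul, ← mem_centralizer_iff.1 (YY_le_cen hx.1) _ (hy.2 c hc), mul_inv_cancel_right]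

theorem kmul_left (hP : P₀ ≤ centralizer (V : Set G)) {c d x : G} (hc : c ∈ P₀) (hd : d ∈ P₀)
    (hx : x ∈ YP b P₀) : kp (c * d) x = kp d x * kp c x := by
  rw [kp_mul_left, ← mem_centralizer_iff.1 (hP hc) _ (hx.2 d hd), mul_inv_cancel_right]

/-- relation (a) -/
theorem rel_a (hP : P₀ ≤ centralizer (V : Set G)) (hY : YY V R ≤ P₀) {g c x : G} (hg : g ∈ XX V R)
    (hc : c ∈ P₀) {k : ι} (hx : x ∈ YP b P₀) (hxk : x ∈ CY b k) :
    kp c (g * x * g⁻¹) * (g * kp c x * g⁻¹)⁻¹ ∈ cj g (R k) := by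
  have hgV := b.X_le_NV hg
  have h1 : c⁻¹ * (g⁻¹ * c * g) ∈ YY V R := by
    have h2 := cen_V_X b (inv_mem (hP hc)) (inv_mem hg)
    have e : c⁻¹ * (g⁻¹ * c * g) = c⁻¹ * g⁻¹ * c⁻¹⁻¹ * g⁻¹⁻¹ := by group
    rw [e]; exact h2
  have h3 : kp (g⁻¹ * c * g) x = kp (c⁻¹ * (g⁻¹ * c * g)) x * kp c x := by
    rw [← kmul_left b hP hc (hY h1) hx, mul_inv_cancel_left]
  rw [kp_conj, h3]
  have e : g * (kp (c⁻¹ * (g⁻¹ * c * g)) x * kp c x) * g⁻¹ * (g * kp c x * g⁻¹)⁻¹ =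
      g * kp (c⁻¹ * (g⁻¹ * c * g)) x * g⁻¹ := by group
  rw [e]
  exact conj_mem_cj (hxk.2 _ h1)

theorem z_mem_U {g x : G} (hg : g ∈ WW V (R j)) (hx : x ∈ CY b i) : kp g x ∈ UU V R j := b.WU' hg hx.1

theorem z_mem_YP (hP : P₀ ≤ centralizer (V : Set G)) (hY : YY V R ≤ P₀) {g x : G} (hg : g ∈ WW V (R j))
    (hx : x ∈ YP b P₀) : kp g x ∈ YP b P₀ :=
  mul_mem (YP_conj b hP hY (W_le_X V R j hg) hx) (inv_mem hx)

/-- `g ↦ [g, x]` is additive modulo `R j` -/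
theorem z_add (hP : P₀ ≤ centralizer (V : Set G)) (hY : YY V R ≤ P₀) {g g' c x : G} (hc : c ∈ P₀)
    (hg : g ∈ WW V (R j)) (hg' : g' ∈ WW V (R j)) (hx : x ∈ YP b P₀) (hxi : x ∈ CY b i) :
    kp c (kp (g * g') x) = kp c (kp g x) * kp c (kp g' x) := by
  have h1 := z_mem_U b hg' hxi
  have h2 := z_mem_YP b hP hY hg hx
  have h3 := z_mem_YP b hP hY hg' hx
  have h4 : kp g (kp g' x) ∈ R j := b.WU hg h1
  have h5 := b.R_le j h4
  have e : kp (g * g') x = kp g (kp g' x) * kp g' x * kp g x := by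
    rw [kp_mul_left]
    conv_lhs => rw [show g * kp g' x * g⁻¹ = kp g (kp g' x) * kp g' x by unfold kp; group]
  rw [e, kmul b hc (mul_mem (V_le_YP b hP h5) h3) h2, kmul b hc (V_le_YP b hP h5) h3, kp_V hP hc h5, one_mul]
  exact b.V_comm _ (h3.2 c hc) _ (h2.2 c hc)

/-- `x ↦ [g, x]` is additive modulo `V` -/
theorem z_mul (hP : P₀ ≤ centralizer (V : Set G)) (hY : YY V R ≤ P₀) {g c x y : G} (hc : c ∈ P₀)
    (hg : g ∈ WW V (R j)) (hx : x ∈ YP b P₀) (hy : y ∈ YP b P₀) :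
    kp c (kp g (x * y)) = kp c (kp g x) * kp c (kp g y) := by
  have h2 := z_mem_YP b hP hY hg hx
  have h3 := z_mem_YP b hP hY hg hy
  have h4 : kp x (kp g y) ∈ V := h3.2 x (hY hx.1)
  have e : kp g (x * y) = kp g x * (kp x (kp g y) * kp g y) := by
    rw [kp_mul]
    congr 1
    unfold kp; group
  rw [e, kmul b hc h2 (mul_mem (V_le_YP b hP h4) h3), kmul b hc (V_le_YP b hP h4) h3, kp_V hP hc h4, one_mul]

include b in
theorem z_V (hP : P₀ ≤ centralizer (V : Set G)) {g c x : G} (hc : c ∈ P₀)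
    (hg : g ∈ WW V (R j)) (hx : x ∈ V) : kp c (kp g x) = 1 :=
  kp_V hP hc (mul_mem (conj_mem_of_normalizer (b.W_le_NV j hg) hx) (inv_mem hx))

end basic

section main

variable {P₀ : Subgroup G}

/-- relation (b): `κ(c, [g, x]) = v ρ σ`, `κ(c, x) = v α β` imply `σ = s (α + ρ)` -/
theorem rel_b (b : BT V R) (C : Crd V R i j v w1 w2) (hP : P₀ ≤ centralizer (V : Set G)) (hY : YY V R ≤ P₀)
    {g c x : G} (hg : g ∈ WW V (R j)) (hc : c ∈ P₀) (hx : x ∈ YP b P₀) (hxi : x ∈ CY b i)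
    {s ρ σ α β : F} (hs : ∀ b' c', g * v b' c' * g⁻¹ = v b' (c' + s * b'))
    (h1 : kp c (kp g x) = v ρ σ) (h2 : kp c x = v α β) : σ = s * (α + ρ) := by
  have h3 := rel_a b hP hY (W_le_X V R j hg) hc hx hxi
  have e1 : g * x * g⁻¹ = kp g x * x := by unfold kp; group
  rw [e1, kmul b hc (z_mem_YP b hP hY hg hx) hx, h1, h2, hs, ← C.v_add] at h3
  obtain ⟨r, hr, er⟩ := h3
  obtain ⟨ρ', rfl⟩ := (C.Ri _).1 hr
  change g * v ρ' 0 * g⁻¹ = _ at er
  rw [hs, eq_mul_inv_iff_mul_eq, ← C.v_add] at er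
  obtain ⟨e2, e3⟩ := C.eq_of er
  have e4 : ρ' = ρ := by
    have : ρ' + α = ρ + α := e2
    exact add_right_cancel this
  rw [e4] at e3
  linear_combination -e3

/-- relation (P) -/
theorem rel_P (b : BT V R) (C : Crd V R i j v w1 w2) (hP : P₀ ≤ centralizer (V : Set G)) (hY : YY V R ≤ P₀)
    {g g' c x : G} (hg : g ∈ WW V (R j)) (hg' : g' ∈ WW V (R j)) (hc : c ∈ P₀) (hx : x ∈ YP b P₀)
    (hxi : x ∈ CY b i) {s s' ρ ρ' σ σ' : F} (hs : ∀ b' c', g * v b' c' * g⁻¹ = v b' (c' + s * b'))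
    (hs' : ∀ b' c', g' * v b' c' * g'⁻¹ = v b' (c' + s' * b'))
    (h1 : kp c (kp g x) = v ρ σ) (h1' : kp c (kp g' x) = v ρ' σ') : s * ρ' + s' * ρ = 0 := by
  obtain ⟨α, β, h2⟩ := (C.v_mem _).1 (hx.2 c hc)
  have h3 := rel_b b C hP hY hg hc hx hxi hs h1 h2.symm
  have h3' := rel_b b C hP hY hg' hc hx hxi hs' h1' h2.symm
  have h4 : kp c (kp (g * g') x) = v (ρ + ρ') (σ + σ') := by
    rw [z_add b hP hY hc hg hg' hx hxi, h1, h1', C.v_add]
  have hs2 : ∀ b' c', (g * g') * v b' c' * (g * g')⁻¹ = v b' (c' + (s' + s) * b') := by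
    intro b' c'
    have e : (g * g') * v b' c' * (g * g')⁻¹ = g * (g' * v b' c' * g'⁻¹) * g⁻¹ := by group
    rw [e, hs', hs]
    congr 1
    ring
  have h5 := rel_b b C hP hY (mul_mem hg hg') hc hx hxi hs2 h4 h2.symm
  linear_combination -h5 + h3 + h3'

/-- `ρ` has weight 3 -/
theorem rel_c (b : BT V R) (C : Crd V R i j v w1 w2) (τ : TorD V R i j v t)
    (hP : P₀ ≤ centralizer (V : Set G)) (hY : YY V R ≤ P₀)
    {g c x : G} (hg : g ∈ WW V (R j)) (hc : c ∈ P₀) (hx : x ∈ YP b P₀)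
    (hxi : x ∈ CY b i) {a s ρ σ ρ' σ' : F} (ha : a ≠ 0) (hs0 : s ≠ 0) (hta : t a * c = c * t a)
    (hs : ∀ b' c', g * v b' c' * g⁻¹ = v b' (c' + s * b'))
    (h1 : kp c (kp g x) = v ρ σ) (h2 : kp c (kp g (t a * x * (t a)⁻¹)) = v ρ' σ') : ρ' = a ^ 3 * ρ := by
  have htX := τ.memX a ha
  have hx' : t a * x * (t a)⁻¹ ∈ YP b P₀ := YP_conj b hP hY htX hx
  have hxi' : t a * x * (t a)⁻¹ ∈ CY b i := CY_conj b (b.X_le_NV htX) (cj_eq_self_iff.2 (τ.normR ha)) hxi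
  have hg' : t a * g * (t a)⁻¹ ∈ WW V (R j) :=
    conj_mem_of_normalizer (normalizer_le_WW V (R j) (τ.normR' ha)) hg
  have h3 : kp c (kp (t a * g * (t a)⁻¹) (t a * x * (t a)⁻¹)) = v (a * ρ) (a⁻¹ * σ) := by
    rw [kp_conj']
    have e : kp c (t a * kp g x * (t a)⁻¹) = t a * kp c (kp g x) * (t a)⁻¹ := by
      rw [kp_conj]
      congr 3
      rw [mul_assoc, ← hta, inv_mul_cancel_left]
    rw [e, h1, τ.act a _ _ ha]
  have hs' : ∀ b' c', (t a * g * (t a)⁻¹) * v b' c' * (t a * g * (t a)⁻¹)⁻¹ =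
      v b' (c' + (a⁻¹ * a⁻¹ * s) * b') := by
    intro b' c'
    have e : (t a * g * (t a)⁻¹) * v b' c' * (t a * g * (t a)⁻¹)⁻¹ =
        t a * (g * (t a⁻¹ * v b' c' * (t a⁻¹)⁻¹) * g⁻¹) * (t a)⁻¹ := by rw [τ.inv ha]; group
    rw [e, τ.act _ _ _ (inv_ne_zero ha), hs, τ.act _ _ _ ha, inv_inv]
    congr 1
    · rw [← mul_assoc, mul_inv_cancel₀ ha, one_mul]
    · rw [mul_add, ← mul_assoc, inv_mul_cancel₀ ha, one_mul]; ring
  have h4 := rel_P b C hP hY hg hg' hc hx' hxi' hs hs' h2 h3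
  -- `s (a ρ) + a⁻² s ρ' = 0`
  have h5 : s * (a * a * (a * ρ) + ρ') = 0 := by
    have e : s * (a * a * (a * ρ) + ρ') = a * a * (s * (a * ρ) + (a⁻¹ * a⁻¹ * s) * ρ') := by
      field_simp
    rw [e, h4, mul_zero]
  have h6 := (mul_eq_zero.1 h5).resolve_left hs0
  have h7 := TorD.two b τ (a * a * (a * ρ))
  linear_combination h6 - h7

/-- (c): `κ(c, [g, x]) ∈ R j` if `c` centralises `t a`, `t (a + 1)` -/
theorem rel_d (b : BTC V R) (C : Crd V R i j v w1 w2) (τ : TorD V R i j v t)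
    (hP : P₀ ≤ centralizer (V : Set G)) (hY : YY V R ≤ P₀)
    {g c x : G} (hg : g ∈ WW V (R j)) (hc : c ∈ P₀) (hx : x ∈ YP b.toBT P₀)
    (hxi : x ∈ CY b.toBT i) {a : F} (ha : a ≠ 0) (ha1 : a + 1 ≠ 0)
    (hta : t a * c = c * t a) (hta' : t (a + 1) * c = c * t (a + 1)) : kp c (kp g x) ∈ R j := by
  obtain ⟨s, hs⟩ := C.f2 g hg
  by_cases hs0 : s = 0
  · -- `g ∈ U j`
    have h1 : kp g x ∈ V := b.R_le i (hxi.2 g (UU_le_YY j (mem_inf.2 ⟨hg, C.mem_cen fun b' c' => by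
      rw [hs, hs0, zero_mul, add_zero]⟩)))
    rw [kp_V hP hc h1]
    exact one_mem _
  obtain ⟨ρ, σ, h1⟩ := (C.v_mem _).1 ((z_mem_YP b.toBT hP hY hg hx).2 c hc)
  have hX1 := YP_conj b.toBT hP hY (τ.memX a ha) hx
  have hX2 := YP_conj b.toBT hP hY (τ.memX _ ha1) hx
  have hC1 := CY_conj b.toBT (b.X_le_NV (τ.memX a ha)) (cj_eq_self_iff.2 (τ.normR ha)) hxi
  have hC2 := CY_conj b.toBT (b.X_le_NV (τ.memX _ ha1)) (cj_eq_self_iff.2 (τ.normR ha1)) hxi
  obtain ⟨ρ₁, σ₁, h2⟩ := (C.v_mem _).1 ((z_mem_YP b.toBT hP hY hg hX1).2 c hc)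
  obtain ⟨ρ₂, σ₂, h3⟩ := (C.v_mem _).1 ((z_mem_YP b.toBT hP hY hg hX2).2 c hc)
  have e1 := rel_c b.toBT C τ hP hY hg hc hx hxi ha hs0 hta hs h1.symm h2.symm
  have e2 := rel_c b.toBT C τ hP hY hg hc hx hxi ha1 hs0 hta' hs h1.symm h3.symm
  -- `t (a + 1) x = d (t a x) x`, `d ∈ V`
  set x₁ := t a * x * (t a)⁻¹ with hx₁
  set x₂ := t (a + 1) * x * (t (a + 1))⁻¹ with hx₂
  have h4 := τ.wU a 1 ha one_ne_zero ha1 x hxi.1
  rw [τ.one, inv_one, one_mul, mul_one, ← hx₁, ← hx₂] at h4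
  have h5 : x₂ * (x₁ * x)⁻¹ ∈ CY b.toBT i := mul_mem hC2 (inv_mem (mul_mem hC1 hxi))
  have h6 : x₂ * (x₁ * x)⁻¹ ∈ V := by
    refine b.cen_DU (i := j) h4 fun u hu => ?_
    have h7 := h5.2 u (UU_le_YY j hu)
    have h8 := b.DU h4 hu
    have h9 : kp u (x₂ * (x₁ * x)⁻¹) ∈ R j := by
      have e : kp u (x₂ * (x₁ * x)⁻¹) =
          (x₂ * (x₁ * x)⁻¹ * u * (x₂ * (x₁ * x)⁻¹)⁻¹ * u⁻¹)⁻¹ := by unfold kp; group
      rw [e]; exact inv_mem h8
    have h10 := b.eq_one C.ne h7 h9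
    unfold kp at h10
    rw [mul_inv_eq_one, mul_inv_eq_iff_eq_mul] at h10
    exact h10.symm
  have h7 : kp c (kp g x₂) = v (ρ₁ + ρ) (σ₁ + σ) := by
    have e : x₂ = x₂ * (x₁ * x)⁻¹ * (x₁ * x) := by group
    rw [e, z_mul b.toBT hP hY hc hg (V_le_YP b.toBT hP h6) (mul_mem hX1 hx), z_V b.toBT hP hc hg h6, one_mul,
      z_mul b.toBT hP hY hc hg hX1 hx, ← h1, ← h2, ← C.v_add]
  have e3 := (C.eq_of (h3.trans h7)).1
  have h8 : a * (a + 1) * ρ = 0 := by
    have h9 := TorD.two b.toBT τ ((a * (a + 1)) * ρ)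
    rw [e1, e2] at e3
    linear_combination e3 - h9
  have h9 : ρ = 0 := (mul_eq_zero.1 h8).resolve_left (mul_ne_zero ha ha1)
  rw [← h1, h9]
  exact (C.Rj _).2 ⟨_, rfl⟩

/-- (d): `c` centralises `t a` ⟹ `[c, d] = 1` for `d ∈ D`, `[c, d] ∈ V` -/
theorem rel_D (b : BT V R) (C : Crd V R i j v w1 w2) (τ : TorD V R i j v t)
    (hP : P₀ ≤ centralizer (V : Set G)) {c d : G} (hc : c ∈ P₀) (hd : d ∈ DD V R) (hdc : kp c d ∈ V)
    {a : F} (ha : a ≠ 0) (ha1 : a ≠ 1) (hta : t a * c = c * t a) : kp c d = 1 := by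
  obtain ⟨β, γ, h1⟩ := (C.v_mem _).1 (b.XD (τ.memX a ha) hd)
  have ha2 : a⁻¹ - 1 ≠ 0 := sub_ne_zero.2 fun h => ha1 (by rw [← inv_inv a, h, inv_one])
  have ha3 : a - 1 ≠ 0 := sub_ne_zero.2 ha1
  -- `w d` commutes with `t a`
  let w := v (-(a - 1)⁻¹ * β) (-(a⁻¹ - 1)⁻¹ * γ)
  have hw : w ∈ V := (C.v_mem _).2 ⟨_, _, rfl⟩
  have h2 : t a * w * (t a)⁻¹ * v β γ = w := by
    change t a * v _ _ * (t a)⁻¹ * v β γ = v _ _
    rw [τ.act a _ _ ha, ← C.v_add]
    congr 1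
    · field_simp; ring
    · field_simp; ring
  have h3 : t a * (w * d) * (t a)⁻¹ = w * d := by
    have e : t a * (w * d) * (t a)⁻¹ = t a * w * (t a)⁻¹ * (t a * d * (t a)⁻¹ * d⁻¹) * d := by group
    rw [e, ← h1, h2]
  have h4 : kp c (w * d) = kp c d := by
    rw [kp_mul, kp_V hP hc hw, one_mul, b.V_comm w hw _ hdc, mul_inv_cancel_right]
  rw [← h4] at hdc ⊢
  refine τ.fpf_V ha ha1 hdc ?_
  have e : t a * kp c (w * d) * (t a)⁻¹ = kp (t a * c * (t a)⁻¹) (t a * (w * d) * (t a)⁻¹) := by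
    rw [kp_conj']
  rw [e, h3, hta, mul_inv_cancel_right]

/-- `n x n⁻¹ ≡ [w2 1, x]` modulo `D` -/
theorem nn_inv (b : BT V R) (C : Crd V R i j v w1 w2) [CharP F 2] {x : G} (hx : x ∈ UU V R i) :
    nn w1 w2 1 * x * (nn w1 w2 1)⁻¹ * (kp (w2 (1 : F)⁻¹) x)⁻¹ ∈ DD V R := by
  have hnX : nn w1 w2 1 ∈ XX V R := C.to_coord.nn_mem_X b 1
  have hxY := UU_le_YY i hx
  set z := kp (w2 (1 : F)⁻¹) x with hz
  have hzU : z ∈ UU V R j := b.WU' (C.W2 _) hx
  have h1 : nn w1 w2 1 * x * (nn w1 w2 1)⁻¹ ∈ UU V R j := by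
    rw [← b.cj_UU (b.X_le_NV hnX) (C.to_coord.nn_R1 b one_ne_zero)]
    exact conj_mem_cj hx
  have hr : kp (w1 1) x ∈ R i := b.WU (C.W1 1) hx
  have hr2 : w1 1 * (w2 (1 : F)⁻¹ * kp (w1 1) x * (w2 (1 : F)⁻¹)⁻¹) * (w1 1)⁻¹ ∈ V :=
    conj_mem_of_normalizer (b.W_le_NV i (C.W1 1)) (conj_mem_of_normalizer (b.W_le_NV j (C.W2 _)) (b.R_le i hr))
  have h2 : kp (w1 1) z ∈ UU V R i := b.WU' (C.W1 1) hzU
  have h3 : w1 1 * x * (w1 1)⁻¹ ∈ UU V R i := by
    have e : w1 1 * x * (w1 1)⁻¹ = kp (w1 1) x * x := by unfold kp; group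
    rw [e]; exact mul_mem (b.R_le_U i hr) hx
  have h4 := b.Y_comm (UU_le_YY j hzU) (UU_le_YY i h3)
  have e : nn w1 w2 1 * x * (nn w1 w2 1)⁻¹ * z⁻¹ =
      (w1 1 * (w2 (1 : F)⁻¹ * kp (w1 1) x * (w2 (1 : F)⁻¹)⁻¹) * (w1 1)⁻¹) * kp (w1 1) z *
        (z * (w1 1 * x * (w1 1)⁻¹) * z⁻¹ * (w1 1 * x * (w1 1)⁻¹)⁻¹) * (w1 1 * x * (w1 1)⁻¹) := by
    rw [hz]; unfold kp nn; group
  rw [← b.UU_inf C.ne]
  refine mem_inf.2 ⟨?_, mul_mem h1 (inv_mem hzU)⟩
  rw [e]
  exact mul_mem (mul_mem (mul_mem (b.D_le_U i (V_le_D V R hr2)) h2) (b.D_le_U i h4)) h3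

/-- `[P₀, x] ≤ R i` -/
theorem kp_mem_R [Finite G] [CharP F 2] (b : BTC V R) (C : Crd V R i j v w1 w2) (τ : TorD V R i j v t)
    (hP : P₀ ≤ centralizer (V : Set G)) (hP2 : IsPGroup 2 P₀) (hY : YY V R ≤ P₀) {a : F} (ha : a ≠ 0)
    (ha1 : a ≠ 1) {c x : G} (hc : c ∈ P₀) (hx : x ∈ YP b.toBT P₀) (hxi : x ∈ CY b.toBT i) :
    kp c x ∈ R i := by
  have haa : a + 1 ≠ 0 := by
    intro h
    apply ha1
    have h1 := TorD.two b.toBT τ (1 : F)
    exact add_right_cancel (h.trans h1.symm)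
  have hnX : nn w1 w2 1 ∈ XX V R := C.to_coord.nn_mem_X b.toBT 1
  have hn : cj (nn w1 w2 1) (R i) = R j := C.to_coord.nn_R1 b.toBT one_ne_zero
  set n := nn w1 w2 1 with hndef
  have hx' : n * x * n⁻¹ ∈ YP b.toBT P₀ := YP_conj b.toBT hP hY hnX hx
  have hxj : n * x * n⁻¹ ∈ CY b.toBT j := CY_conj b.toBT (b.X_le_NV hnX) hn hxi
  have hc' : n * c * n⁻¹ ∈ P₀ := conj_mem_of_normalizer (X_le_N b.toBT hP hY hnX) hc
  obtain ⟨c₀, hc₀, hcom⟩ := exists_cen_coset (T := τ.grp) (Y := YY V R)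
    (by
      rintro _ ⟨a, ha, rfl⟩ _ ⟨a', ha', rfl⟩
      exact τ.comm ha ha')
    (by
      rintro _ ⟨a, ha, rfl⟩
      exact b.NV_le_NY (b.X_le_NV (τ.memX a ha)))
    (by
      rintro _ ⟨a, ha, rfl⟩
      exact τ.odd a ha) (hP2.to_le hY) (n * c * n⁻¹)
    (by
      rintro _ ⟨a, ha, rfl⟩
      have h1 := cen_V_X b.toBT (inv_mem (hP hc')) (τ.memX a ha)
      rw [inv_inv] at h1
      have e : (n * c * n⁻¹)⁻¹ * (t a * (n * c * n⁻¹) * (t a)⁻¹) = (n * c * n⁻¹)⁻¹ * t a * (n * c * n⁻¹) * (t a)⁻¹ := by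
        group
      rw [e]; exact h1)
  have hc₀P : c₀ ∈ P₀ := by
    have h1 := mul_mem hc' (hY hc₀)
    rwa [mul_inv_cancel_left] at h1
  -- `c' = c₀ y`
  have h1 : kp (n * c * n⁻¹) (n * x * n⁻¹) ∈ R j := by
    have e : n * c * n⁻¹ = c₀ * ((n * c * n⁻¹)⁻¹ * c₀)⁻¹ := by group
    rw [e, kmul_left b.toBT hP hc₀P (hY (inv_mem hc₀)) hx']
    refine mul_mem (hxj.2 _ (inv_mem hc₀)) ?_
    have h2 := nn_inv b.toBT C hxi.1
    rw [← hndef] at h2
    have hz := z_mem_YP b.toBT hP hY (C.W2 (1 : F)⁻¹) hx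
    have hd : n * x * n⁻¹ * (kp (w2 (1 : F)⁻¹) x)⁻¹ ∈ YP b.toBT P₀ := mul_mem hx' (inv_mem hz)
    have e2 : n * x * n⁻¹ = n * x * n⁻¹ * (kp (w2 (1 : F)⁻¹) x)⁻¹ * kp (w2 (1 : F)⁻¹) x := by group
    rw [e2, kmul b.toBT hc₀P hd hz,
      rel_D b.toBT C τ hP hc₀P h2 (hd.2 c₀ hc₀P) ha ha1 (hcom _ ⟨a, ha, rfl⟩), one_mul]
    exact rel_d b C τ hP hY (C.W2 _) hc₀P hx hxi ha haa (hcom _ ⟨a, ha, rfl⟩) (hcom _ ⟨a + 1, haa, rfl⟩)
  rw [kp_conj', ← hn] at h1
  have h2 := mem_cj.1 h1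
  rwa [show n⁻¹ * (n * kp c x * n⁻¹) * n = kp c x by group] at h2

/-- `CY i = V` -/
theorem CY_le_V [Finite G] [CharP F 2] (b : BTC V R) (C : Crd V R i j v w1 w2) (τ : TorD V R i j v t)
    {a : F} (ha : a ≠ 0) (ha1 : a ≠ 1) {P : Subgroup G} (hP2 : IsPGroup 2 P)
    (hPV : P ≤ normalizer (V : Set G)) (hPR : P ≤ centralizer (R i : Set G)) (hW : WW V (R i) ≤ P)
    (hY : YY V R ≤ P)
    (hcen : ∀ x ∈ WW V (R i), (∀ s ∈ P, s * x * s⁻¹ * x⁻¹ ∈ R i) → x ∈ V) : CY b.toBT i ≤ V := by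
  by_contra hne
  have hPN : P ≤ normalizer (R i : Set G) := hPR.trans (centralizer_le_normalizer _)
  have h1 : P ≤ normalizer (CY b.toBT i : Set G) := by
    refine le_normalizer_of fun g hg x hx => ?_
    exact CY_conj b.toBT (hPV hg) (cj_eq_self_iff.2 (hPN hg)) hx
  obtain ⟨x, hx, hxV, hxP⟩ := Cz.exists_fixed_mod hP2 (B := CY b.toBT i) (fun x hx => hW (UU_le_WW i hx.1)) h1 hPV hne
  apply hxV
  have hP₀ : P ⊓ centralizer (V : Set G) ≤ centralizer (V : Set G) := inf_le_right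
  have hY₀ : YY V R ≤ P ⊓ centralizer (V : Set G) := le_inf hY YY_le_cen
  have hxY : x ∈ YP b.toBT (P ⊓ centralizer (V : Set G)) := ⟨UU_le_YY i hx.1, fun c hc => hxP c hc.1⟩
  refine hcen x (UU_le_WW i hx.1) fun s hs => ?_
  obtain ⟨w, hw, hws⟩ := cen_fact b.toBT C hP2 hPV hPR hW hs
  have h2 : kp (w * s) x ∈ R i := kp_mem_R b C τ hP₀ (hP2.to_le inf_le_left) hY₀ ha ha1
    (mem_inf.2 ⟨mul_mem (hW hw) hs, hws⟩) hxY hx
  have e : s * x * s⁻¹ * x⁻¹ = w⁻¹ * kp (w * s) x * w⁻¹⁻¹ * (w⁻¹ * x * w⁻¹⁻¹ * x⁻¹) := by unfold kp; group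
  rw [e]
  exact mul_mem (conj_mem_of_normalizer (b.W_le_N i (inv_mem hw)) h2) (b.WU (inv_mem hw) hx.1)

/-- **LEMMA CA**: `C_M(A) = e` -/
theorem cen_A [Finite G] [CharP F 2] (b : BTC V R) (C : Crd V R i j v w1 w2) (τ : TorD V R i j v t)
    {a : F} (ha : a ≠ 0) (ha1 : a ≠ 1) (S : Sylow 2 G) (hSV : (S : Subgroup G) ≤ normalizer (V : Set G))
    (hSR : (S : Subgroup G) ≤ normalizer (R i : Set G))
    (hcen : ∀ x ∈ WW V (R i), (∀ s ∈ (S : Subgroup G), s ∈ centralizer (R i : Set G) →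
      s * x * s⁻¹ * x⁻¹ ∈ R i) → x ∈ V) {x : G} (hx : x ∈ WW V (R i))
    (h : ∀ u ∈ UU V R j, u * x * u⁻¹ * x⁻¹ ∈ R i) : x ∈ V := by
  have hle : ∀ N T : Subgroup G, IsPGroup 2 T → (S : Subgroup G) ≤ N → N ≤ normalizer (T : Set G) →
      T ≤ N → T ≤ (S : Subgroup G) := by
    intro N T hT hSN hN _
    have h3 : IsPGroup 2 ((S : Subgroup G) ⊔ T : Subgroup G) :=
      S.isPGroup'.to_sup_of_normal_right' hT (hSN.trans hN)
    have h4 := S.is_maximal' h3 le_sup_left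
    exact le_sup_right.trans_eq h4
  have hWS : WW V (R i) ≤ (S : Subgroup G) :=
    hle _ _ (b.W_isPGroup i) hSR (normalizer_le_WW V (R i)) (b.W_le_N i)
  have hY2 : IsPGroup 2 (YY V R) := by
    rw [b.Y_eq C.ne]
    exact (b.U_isPGroup i).to_sup_of_normal_right' (b.U_isPGroup j) ((UU_le_cen i).trans (b.cen_le_NU j))
  have hYS : YY V R ≤ (S : Subgroup G) := hle _ _ hY2 hSV b.NV_le_NY Y_le_NV
  have hxU : x ∈ UU V R i := by
    by_contra hxU
    refine Cz.not_UU_le b S C.ne hSV hSR fun u hu => ?_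
    refine b.inj C.ne.symm hx hxU hu ?_
    have e : x * u * x⁻¹ * u⁻¹ = (u * x * u⁻¹ * x⁻¹)⁻¹ := by group
    rw [e]
    exact inv_mem (V_le_D V R (b.R_le i (h u hu)))
  refine CY_le_V b C τ ha ha1 (P := (S : Subgroup G) ⊓ centralizer (R i : Set G)) (S.isPGroup'.to_le inf_le_left)
    (inf_le_left.trans hSV) inf_le_right (le_inf hWS fun w hw => ?_) (le_inf hYS fun y hy => ?_)
    (fun x hx hs => hcen x hx fun s h1 h2 => hs s (mem_inf.2 ⟨h1, h2⟩)) ⟨hxU, fun y hy => ?_⟩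
  · rw [mem_centralizer_iff]
    exact fun r hr => (b.QR i w (b.W_le_Q i hw) r hr).symm
  · exact centralizer_le (b.R_le i) (YY_le_cen hy)
  · let T : Subgroup G :=
      { carrier := {y | y ∈ centralizer (V : Set G) ∧ kp y x ∈ R i}
        one_mem' := ⟨one_mem _, by
          have e : kp 1 x = 1 := by unfold kp; group
          rw [e]; exact one_mem _⟩
        mul_mem' := by
          rintro c d ⟨hc, hc'⟩ ⟨hd, hd'⟩
          refine ⟨mul_mem hc hd, ?_⟩
          rw [kp_mul_left]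
          exact mul_mem (conj_mem_of_normalizer (b.cen_le_N i hc) hd') hc'
        inv_mem' := by
          rintro c ⟨hc, hc'⟩
          refine ⟨inv_mem hc, ?_⟩
          have e : kp c⁻¹ x = c⁻¹ * (kp c x)⁻¹ * c := by unfold kp; group
          rw [e]
          exact conj_inv_mem_of_normalizer (b.cen_le_N i hc) (inv_mem hc') }
    have hT : YY V R ≤ T := by
      rw [b.Y_eq C.ne]
      refine sup_le (fun u hu => ⟨UU_le_cen i hu, ?_⟩) fun u hu => ⟨UU_le_cen j hu, h u hu⟩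
      exact b.WU (UU_le_WW i hu) hxU
    exact (hT hy).2

end main

/-! ### consequences -/

section norm

/-- `g ∈ N(R i)` normalising a group `E ≥ U j` with `[E, V] ≤ R i` normalises `V` -/
theorem norm_of [Finite G] (b : BT V R)
    (hA : ∀ x ∈ WW V (R i), (∀ u ∈ UU V R j, u * x * u⁻¹ * x⁻¹ ∈ R i) → x ∈ V) {E : Subgroup G}
    (hUE : UU V R j ≤ E) (hE : ∀ y ∈ E, ∀ x ∈ V, y * x * y⁻¹ * x⁻¹ ∈ R i) {g : G}
    (hg : g ∈ normalizer (R i : Set G)) (hgE : g ∈ normalizer (E : Set G)) : g ∈ normalizer (V : Set G) := by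
  have _ := b
  refine mem_normalizer_of_conj fun x hx => ?_
  refine hA _ (conj_mem_of_normalizer (normalizer_le_WW V (R i) hg) (V_le_WW V (R i) hx)) fun u hu => ?_
  have h1 := hE _ (conj_inv_mem_of_normalizer hgE (hUE hu)) x hx
  have h2 := conj_mem_of_normalizer hg h1
  have e : g * (g⁻¹ * u * g * x * (g⁻¹ * u * g)⁻¹ * x⁻¹) * g⁻¹ = u * (g * x * g⁻¹) * u⁻¹ * (g * x * g⁻¹)⁻¹ := by
    group
  rwa [e] at h2

/-- `N(R i) ∩ N(W i U j) ≤ N(V)` -/
theorem norm_of_normA [Finite G] (b : BT V R)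
    (hA : ∀ x ∈ WW V (R i), (∀ u ∈ UU V R j, u * x * u⁻¹ * x⁻¹ ∈ R i) → x ∈ V) {g : G}
    (hg : g ∈ normalizer (R i : Set G)) (hgE : g ∈ normalizer ((WW V (R i) ⊔ UU V R j : Subgroup G) : Set G)) :
    g ∈ normalizer (V : Set G) := by
  refine norm_of b hA (E := WW V (R i) ⊔ UU V R j) le_sup_right ?_ hg hgE
  let T : Subgroup G :=
    { carrier := {y | y ∈ normalizer (R i : Set G) ∧ ∀ x ∈ V, kp y x ∈ R i}
      one_mem' := ⟨one_mem _, fun x _ => by
        have e : kp 1 x = 1 := by unfold kp; group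
        rw [e]; exact one_mem _⟩
      mul_mem' := by
        rintro c d ⟨hc, hc'⟩ ⟨hd, hd'⟩
        refine ⟨mul_mem hc hd, fun x hx => ?_⟩
        rw [kp_mul_left]
        exact mul_mem (conj_mem_of_normalizer hc (hd' x hx)) (hc' x hx)
      inv_mem' := by
        rintro c ⟨hc, hc'⟩
        refine ⟨inv_mem hc, fun x hx => ?_⟩
        have e : kp c⁻¹ x = c⁻¹ * (kp c x)⁻¹ * c := by unfold kp; group
        rw [e]
        exact conj_inv_mem_of_normalizer hc (inv_mem (hc' x hx)) }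
  have hT : WW V (R i) ⊔ UU V R j ≤ T := by
    refine sup_le (fun w hw => ⟨b.W_le_N i hw, fun x hx => b.WW_comm i hw (V_le_WW V (R i) hx)⟩)
      fun u hu => ⟨b.cen_le_N i (UU_le_cen j hu), fun x hx => ?_⟩
    have e : kp u x = 1 := by
      unfold kp
      rw [← mem_centralizer_iff.1 (UU_le_cen j hu) x hx]; group
    rw [e]; exact one_mem _
  exact fun y hy x hx => (hT hy).2 x hx

end norm

end Cfsg.Agent.Omega.IIa4.CenA

end

section


/-!
# II.a, `q ≥ 4`: reduction of `GZero` to `HasBN (X ⊔ E)`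

`Sit.cen_A`: LEMMA CA in the situation `Sit`;  `Sit.frattini`: `N(R i) = E (N(R i) ∩ N(V))` for every `E` normal
in `N(R i)` with `U j ≤ E ≤ C(R i)`;  `Sit.gZero_of`.
-/

set_option autoImplicit false
set_option linter.unusedSectionVars false

namespace Cfsg.Agent.Omega.IIa4

open Subgroup Cfsg Cfsg.Agent.ZN Cfsg.Agent.Omega.NatPair Cfsg.Agent.Omega.BTwo
open Cfsg.Agent.Omega.Frame Cfsg.Agent.Omega.FrameFF

universe u

namespace Sit

variable {G : Type u} [Group G] [Finite G] {S : Sylow 2 G} {P : Subgroup G} {g : G} {F : Type} [Field F]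
  [Finite F] [CharP F 2] {M : NatMod F (zl (S : Subgroup G) P)} (h : Sit S P g M)
include h

/-- a Sylow 2-subgroup in `N(V) ∩ N(R i)` -/
theorem exists_sylow (i : Pt M) : ∃ S₁ : Sylow 2 G, (S₁ : Subgroup G) ≤ normalizer (zl (S : Subgroup G) P : Set G) ∧
    (S₁ : Subgroup G) ≤ normalizer (pt M i : Set G) := by
  obtain ⟨_, w, hw, rfl⟩ := i
  exact M.exists_sylow S h.le_N hw

theorem W_le (i : Pt M) (S₁ : Sylow 2 G) (hSR : (S₁ : Subgroup G) ≤ normalizer (pt M i : Set G)) :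
    WW (zl (S : Subgroup G) P) (pt M i) ≤ (S₁ : Subgroup G) := by
  have h3 := S₁.isPGroup'.to_sup_of_normal_right' (h.bt.W_isPGroup i)
    (hSR.trans (normalizer_le_WW (zl (S : Subgroup G) P) (pt M i)))
  exact le_sup_right.trans_eq (S₁.is_maximal' h3 le_sup_left)

theorem Y_le (S₁ : Sylow 2 G) (hSV : (S₁ : Subgroup G) ≤ normalizer (zl (S : Subgroup G) P : Set G)) :
    YY (zl (S : Subgroup G) P) (pt M) ≤ (S₁ : Subgroup G) := by
  obtain ⟨i, j, hij⟩ := h.bt.exists_pair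
  have hY2 : IsPGroup 2 (YY (zl (S : Subgroup G) P) (pt M)) := by
    rw [h.bt.Y_eq hij]
    exact (h.bt.U_isPGroup i).to_sup_of_normal_right' (h.bt.U_isPGroup j)
      ((UU_le_cen i).trans (h.bt.cen_le_NU j))
  have h3 := S₁.isPGroup'.to_sup_of_normal_right' hY2 (hSV.trans h.bt.NV_le_NY)
  exact le_sup_right.trans_eq (S₁.is_maximal' h3 le_sup_left)

/-- **LEMMA CA**: `C_{W/R}(U j) = V/R` -/
theorem cen_A (hcen : CenSE (zl (S : Subgroup G) P) (pt M)) {i j : Pt M} (hij : i ≠ j) :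
    ∀ x ∈ WW (zl (S : Subgroup G) P) (pt M i), (∀ u ∈ UU (zl (S : Subgroup G) P) (pt M) j,
      u * x * u⁻¹ * x⁻¹ ∈ pt M i) → x ∈ zl (S : Subgroup G) P := by
  intro x hx hu
  obtain ⟨S₁, hSV, hSR⟩ := h.exists_sylow i
  obtain ⟨v, w1, w2, c⟩ := h.exists_coord hij
  obtain ⟨t, τ⟩ := h.exists_torD c
  obtain ⟨a, ha, ha1⟩ := h.exists_ne
  exact CenA.cen_A h.btc (Lie.Crd.of_coord c) τ ha ha1 S₁ hSV hSR (hcen i S₁ hSV hSR) hx hu

/-- `N(R i) ∩ N(W i U j) ≤ N(V)` -/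
theorem norm_of_normA (hcen : CenSE (zl (S : Subgroup G) P) (pt M)) {i j : Pt M} (hij : i ≠ j) {g : G}
    (hg : g ∈ normalizer (pt M i : Set G))
    (hgE : g ∈ normalizer ((WW (zl (S : Subgroup G) P) (pt M i) ⊔ UU (zl (S : Subgroup G) P) (pt M) j :
      Subgroup G) : Set G)) : g ∈ normalizer (zl (S : Subgroup G) P : Set G) :=
  CenA.norm_of_normA h.bt (h.cen_A hcen hij) hg hgE

/-- `[s, x] ∈ R i` for `x ∈ V` and `s` in a 2-subgroup of `C(R i) ∩ N(V)` -/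
theorem comm_V {i : Pt M} (S₁ : Sylow 2 G) (hSV : (S₁ : Subgroup G) ≤ normalizer (zl (S : Subgroup G) P : Set G))
    (hSR : (S₁ : Subgroup G) ≤ normalizer (pt M i : Set G)) {s x : G} (hs : s ∈ (S₁ : Subgroup G))
    (hsR : s ∈ centralizer (pt M i : Set G)) (hx : x ∈ zl (S : Subgroup G) P) : s * x * s⁻¹ * x⁻¹ ∈ pt M i := by
  obtain ⟨j, hj, -⟩ := h.bt.third i i
  obtain ⟨v, w1, w2, c⟩ := h.exists_coord (Ne.symm hj)
  obtain ⟨w, hw, hws⟩ := Lie.cen_fact h.bt (Lie.Crd.of_coord c)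
    (P := (S₁ : Subgroup G) ⊓ centralizer (pt M i : Set G)) (S₁.isPGroup'.to_le inf_le_left)
    (inf_le_left.trans hSV) inf_le_right (le_inf (h.W_le i S₁ hSR) fun w hw => by
      rw [mem_centralizer_iff]
      exact fun r hr => (h.bt.QR i w (h.bt.W_le_Q i hw) r hr).symm) (mem_inf.2 ⟨hs, hsR⟩)
  have e : s * x * s⁻¹ * x⁻¹ = w⁻¹ * ((w * s) * x * (w * s)⁻¹) * w⁻¹⁻¹ * x⁻¹ := by group
  rw [e, ← mem_centralizer_iff.1 hws x hx, mul_inv_cancel_right]
  exact h.bt.WW_comm i (inv_mem hw) (V_le_WW _ _ hx)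

/-- **Frattini**: `N(R i) = E (N(R i) ∩ N(V))` -/
theorem frattini (hcen : CenSE (zl (S : Subgroup G) P) (pt M)) {i j : Pt M} (hij : i ≠ j) {E : Subgroup G}
    (hE : normalizer (pt M i : Set G) ≤ normalizer (E : Set G)) (hUE : UU (zl (S : Subgroup G) P) (pt M) j ≤ E)
    (hER : E ≤ centralizer (pt M i : Set G)) {g : G} (hg : g ∈ normalizer (pt M i : Set G)) :
    ∃ e ∈ E, e * g ∈ normalizer (zl (S : Subgroup G) P : Set G) := by
  obtain ⟨S₁, hSV, hSR⟩ := h.exists_sylow i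
  have hEN : E ≤ normalizer (pt M i : Set G) := hER.trans (centralizer_le_normalizer _)
  have h1 := ((StdEven.Syl.isSyl_top_of_sylow S₁).mono hSR le_top).inf_normal hEN hE
  obtain ⟨n, hn, hng⟩ := h1.frattini (hE hg)
  refine ⟨n, hn, CenA.norm_of h.bt (h.cen_A hcen hij) (E := (S₁ : Subgroup G) ⊓ E)
    (le_inf ((UU_le_YY j).trans (h.Y_le S₁ hSV)) hUE) ?_ (mul_mem (hEN hn) hg) hng⟩
  exact fun y hy x hx => h.comm_V S₁ hSV hSR hy.1 (hER hy.2) hx

/-- **`GZero` from a BN-pair of `X E`** -/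
theorem gZero_of (hcen : CenSE (zl (S : Subgroup G) P) (pt M)) {i j : Pt M} (hij : i ≠ j) {E : Subgroup G}
    (hE : normalizer (pt M i : Set G) ≤ normalizer (E : Set G)) (hUE : UU (zl (S : Subgroup G) P) (pt M) j ≤ E)
    (hER : E ≤ centralizer (pt M i : Set G))
    (hBN : HasBN ↥(XX (zl (S : Subgroup G) P) (pt M) ⊔ E)) : GZero (zl (S : Subgroup G) P) (pt M) := by
  have key : ∀ g ∈ normalizer (pt M i : Set G), g ∈ normalizer (zl (S : Subgroup G) P : Set G) →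
      g ∈ normalizer ((XX (zl (S : Subgroup G) P) (pt M) ⊔ E : Subgroup G) : Set G) := by
    intro g h1 h2
    rw [← BTwo.cj_eq_self_iff, cj_sup, BTwo.cj_eq_self_iff.2 (h.bt.NV_le_NX h2), BTwo.cj_eq_self_iff.2 (hE h1)]
  refine ⟨i, _, ?_, ?_, ?_, hBN⟩
  · intro h0
    apply h.bt.R_ne i
    rw [eq_bot_iff, ← h0]
    exact (h.bt.R_le i).trans ((V_le_WW _ _).trans ((W_le_X _ (pt M) i).trans le_sup_left))
  · intro g hg
    obtain ⟨k, hk⟩ := h.bt.perm g hg i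
    obtain ⟨x, hx, ex⟩ := h.bt.trans_X_one k i
    have h1 : x * g ∈ normalizer (pt M i : Set G) := by
      rw [← BTwo.cj_eq_self_iff, BTwo.cj_mul, hk, ex]
    have h2 := key _ h1 (mul_mem (h.bt.X_le_NV hx) hg)
    have h3 : x ∈ normalizer ((XX (zl (S : Subgroup G) P) (pt M) ⊔ E : Subgroup G) : Set G) :=
      le_normalizer (mem_sup_left hx)
    have e : g = x⁻¹ * (x * g) := by group
    rw [e]
    exact mul_mem (inv_mem h3) h2
  · intro g hg
    obtain ⟨e, he, heg⟩ := h.frattini hcen hij hE hUE hER hg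
    have h2 := key _ (mul_mem (hER.trans (centralizer_le_normalizer _) he) hg) heg
    have h3 : e ∈ normalizer ((XX (zl (S : Subgroup G) P) (pt M) ⊔ E : Subgroup G) : Set G) :=
      le_normalizer (mem_sup_right he)
    have e1 : g = e⁻¹ * (e * g) := by group
    rw [e1]
    exact mul_mem (inv_mem h3) h2

end Sit

end Cfsg.Agent.Omega.IIa4

end

section


/-!
# II.a, `q ≥ 4`: the product of the moved components is `⟨A^H⟩` (piece (P4) of #15373)

`up R L` : the preimage in `G` of `L ≤ H = N(R)/O₂(N(R))`.  For `l : Lay V R i j T S` (LAYER at the pair `(i, j)`):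

* `Lay.dat` : the data of `End.AHat`;
* `Lay.mcomp_conj`, `Lay.nc_eq`, `Lay.sylow_eq`, `Lay.mcomp_of_le`, `Lay.nc_perfect` : if `(⨆ K ∈ MComp, K)` is normal in
  `H`, the moved components are permuted by `H`, `⟨A^H⟩ = ⨆ K`, `S ⊓ ⟨A^H⟩ = ⨆ (S ⊓ K)`, the components of `H`
  contained in `⟨A^H⟩` are the moved ones;
* `Sit.mcomp_normal` : in the situation `Sit` with `CenSE` the product of the moved components is normal.
-/

set_option autoImplicit false
set_option linter.unusedSectionVars false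

namespace Cfsg.Agent.Omega.IIa4

open Subgroup Cfsg Cfsg.Agent.ZN Cfsg.Agent.Omega.NatPair Cfsg.Agent.Omega.BTwo
open Cfsg.Agent.Omega.Frame Cfsg.Agent.Omega.FrameFF Cfsg.Agent.Omega.Lie Cfsg.Agent.Omega.Lie.Quot
open Cfsg.Agent.Omega.Lie.End

universe u

/-! ### Preimages in `G` -/

namespace Moved

section up

variable {G : Type u} [Group G] {R : Subgroup G} {L L' : Subgroup (HQ R)}

/-- the preimage in `G` of a subgroup of `N(R)/O₂(N(R))` -/
def up (R : Subgroup G) (L : Subgroup (HQ R)) : Subgroup G :=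
  (L.comap (pr R)).map (normalizer (R : Set G)).subtype

theorem mem_up {g : G} : g ∈ up R L ↔ ∃ hg : g ∈ normalizer (R : Set G), pr R ⟨g, hg⟩ ∈ L := by
  unfold up
  rw [mem_map]
  constructor
  · rintro ⟨x, hx, rfl⟩
    exact ⟨x.2, hx⟩
  · rintro ⟨hg, hL⟩
    exact ⟨⟨g, hg⟩, hL, rfl⟩

theorem up_le : up R L ≤ normalizer (R : Set G) := fun _ hg => (mem_up.1 hg).1

theorem up_mono (h : L ≤ L') : up R L ≤ up R L' := fun g hg => by
  obtain ⟨h1, h2⟩ := mem_up.1 hg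
  exact mem_up.2 ⟨h1, h h2⟩

theorem QQ_le_up : QQ R ≤ up R L := fun g hg => by
  have h1 : g ∈ normalizer (R : Set G) := by
    obtain ⟨x, -, rfl⟩ := hg
    exact x.2
  refine mem_up.2 ⟨h1, ?_⟩
  rw [(pr_eq_one h1).2 hg]
  exact one_mem _

theorem im_up : im R (up R L) = L := by
  ext x
  obtain ⟨g, hg, rfl⟩ := exists_pr x
  rw [pr_mem_im_iff QQ_le_up, mem_up]
  exact ⟨fun ⟨_, h⟩ => h, fun h => ⟨hg, h⟩⟩

theorem le_up {A : Subgroup G} (hA : A ≤ normalizer (R : Set G)) (h : im R A ≤ L) : A ≤ up R L := fun _ hg =>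
  mem_up.2 ⟨hA hg, h (pr_mem_im (hA hg) hg)⟩

theorem up_im {A : Subgroup G} (hQ : QQ R ≤ A) (hA : A ≤ normalizer (R : Set G)) : up R (im R A) = A := by
  refine le_antisymm (fun g hg => ?_) (le_up hA le_rfl)
  obtain ⟨h1, h2⟩ := mem_up.1 hg
  exact (pr_mem_im_iff hQ h1).1 h2

theorem up_conj (hL : L.Normal) {g x : G} (hg : g ∈ normalizer (R : Set G)) (hx : x ∈ up R L) :
    g * x * g⁻¹ ∈ up R L := by
  obtain ⟨h1, h2⟩ := mem_up.1 hx
  exact mem_up.2 ⟨mul_mem (mul_mem hg h1) (inv_mem hg), hL.conj_mem _ h2 (pr R ⟨g, hg⟩)⟩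

/-- the preimage of a normal subgroup is normal in `N(R)` -/
theorem le_normalizer_up (hL : L.Normal) : normalizer (R : Set G) ≤ normalizer (up R L : Set G) := by
  intro g hg
  rw [mem_normalizer_iff]
  intro x
  refine ⟨up_conj hL hg, fun h => ?_⟩
  have h1 := up_conj hL (inv_mem hg) h
  have e : g⁻¹ * (g * x * g⁻¹) * g⁻¹⁻¹ = x := by group
  rwa [e] at h1

theorem up_inf : up R (L ⊓ L') = up R L ⊓ up R L' := by
  ext g
  rw [mem_inf, mem_up, mem_up, mem_up]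
  constructor
  · rintro ⟨h1, h2⟩
    exact ⟨⟨h1, h2.1⟩, ⟨h1, h2.2⟩⟩
  · rintro ⟨⟨h1, h2⟩, ⟨h3, h4⟩⟩
    exact ⟨h1, h2, h4⟩

theorem up_sup : up R (L ⊔ L') = up R L ⊔ up R L' := by
  unfold up
  rw [← Subgroup.map_sup, comap_sup_eq _ _ _ (pr_surjective R)]

end up

section BT

variable {G : Type u} [Group G] {ι : Type*} {V : Subgroup G} {R : ι → Subgroup G} {i j : ι}

/-- `C(R i)` is the preimage of `H⁰` -/
theorem up_H0 (b : BT V R) : up (R i) (H0 R i) = centralizer (R i : Set G) :=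
  up_im (Q_le_C b i) (centralizer_le_normalizer _)

/-- `A` is the image of `Y` -/
theorem im_YY (b : BT V R) (hij : i ≠ j) : im (R i) (YY V R) = AA V R i j := by
  have h1 : UU V R i ≤ QQ (R i) := (UU_le_WW i).trans (b.W_le_Q i)
  rw [b.Y_eq hij, im_sup (h1.trans (b.Q_le i)) (U_le_N b i j), im_eq_bot h1, bot_sup_eq]
  rfl

/-- elements of `N(R i) ⊓ N(V)` normalise `A` -/
theorem norm_A (b : BT V R) (hij : i ≠ j) {g : G} (hg : g ∈ normalizer (R i : Set G))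
    (hV : g ∈ normalizer (V : Set G)) : ∀ a ∈ AA V R i j, pr (R i) ⟨g, hg⟩ * a * (pr (R i) ⟨g, hg⟩)⁻¹ ∈ AA V R i j := by
  rw [← im_YY b hij]
  intro a ha
  obtain ⟨y, hy, hyY, rfl⟩ := mem_im.1 ha
  exact mem_im.2 ⟨_, _, conj_mem_of_normalizer (b.NV_le_NY hV) hyY, rfl⟩

/-- `⟨U_j^{N(R i)}⟩ O₂(N(R i))` -/
def EE (V : Subgroup G) (R : ι → Subgroup G) (i j : ι) : Subgroup G :=
  up (R i) (normalClosure (AA V R i j : Set (HQ (R i))))

theorem U_le_EE (b : BT V R) : UU V R j ≤ EE V R i j :=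
  le_up (U_le_N b i j) fun _ hx => subset_normalClosure hx

theorem Y_le_EE (b : BT V R) (hij : i ≠ j) : YY V R ≤ EE V R i j := by
  refine le_up ((YY_le_cen).trans (b.cen_le_N i)) ?_
  rw [im_YY b hij]
  exact fun _ hx => subset_normalClosure hx

theorem NR_le_NEE : normalizer (R i : Set G) ≤ normalizer (EE V R i j : Set G) :=
  le_normalizer_up inferInstance

theorem EE_le_cen (b : BT V R) : EE V R i j ≤ centralizer (R i : Set G) := by
  rw [← up_H0 b]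
  have := Layer.H0_normal R i
  exact up_mono (normalClosure_le_normal (Layer.A_le_H0 b))

end BT

end Moved

open Moved AHat

/-! ### The moved components -/

namespace Lay

variable {G : Type u} [Group G] {ι : Type*} {V : Subgroup G} {R : ι → Subgroup G} {i j : ι}
  {T S : Subgroup (HQ (R i))} (l : Lay V R i j T S) (b : BT V R) (hij : i ≠ j)
include l b hij

/-- the data of `End.AHat` -/
theorem dat : Dat (H0 R i) S (AA V R i j) T where
  O2 := pCore_HQ (R i)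
  norm := Layer.H0_normal R i
  A_le := Layer.A_le_H0 b
  sq := fun _ ha => A_sq b hij ha
  odd := l.odd
  hyp := l.hyp

variable [Finite G]

/-- `A ⊓ K ≠ 1` for a moved component -/
theorem inf_ne {K : Subgroup (HQ (R i))} (hK : MComp V R i j K) : AA V R i j ⊓ K ≠ ⊥ := (l.dat b hij).inf_ne hK

/-- `K` is moved iff `A ⊓ K ≠ 1` -/
theorem mcomp_iff {K : Subgroup (HQ (R i))} : MComp V R i j K ↔ IsComponent K ∧ K ≤ H0 R i ∧ AA V R i j ⊓ K ≠ ⊥ := by
  refine ⟨fun h => ⟨h.1, h.2.1, l.inf_ne b hij h⟩, fun ⟨h1, h2, h3⟩ => ⟨h1, h2, ?_⟩⟩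
  by_contra hc
  push Not at hc
  exact h3 ((l.dat b hij).inf_eq_bot h1 hc)

theorem comp_le_nc {K : Subgroup (HQ (R i))} (hK : MComp V R i j K) :
    K ≤ normalClosure (AA V R i j : Set (HQ (R i))) := (l.dat b hij).le_nc hK

section normal

variable (hn : (⨆ K ∈ {K : Subgroup (HQ (R i)) | MComp V R i j K}, K).Normal)
include hn

/-- **`⟨A^H⟩ = ∏ K`** -/
theorem nc_eq : normalClosure (AA V R i j : Set (HQ (R i))) = ⨆ K ∈ {K : Subgroup (HQ (R i)) | MComp V R i j K}, K :=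
  le_antisymm (normalClosure_le_normal (l.dat b hij).A_le_prod) (l.dat b hij).prod_le_nc

/-- a component in `⟨A^H⟩` is moved -/
theorem mcomp_of_le {L : Subgroup (HQ (R i))} (hL : IsComponent L)
    (hle : L ≤ normalClosure (AA V R i j : Set (HQ (R i)))) : MComp V R i j L := by
  by_contra hcon
  have h1 : normalClosure (AA V R i j : Set (HQ (R i))) ≤ centralizer (L : Set (HQ (R i))) := by
    rw [l.nc_eq b hij hn]
    refine iSup₂_le fun K hK => ?_
    exact SignalizersComponents.Components.component_le_centralizer_of_ne hK.1 hL (by rintro rfl; exact hcon hK)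
  apply SignalizersComponents.Components.quasisimple_not_isMulCommutative hL.2
  refine ⟨⟨fun x y => Subtype.ext ?_⟩⟩
  exact (mem_centralizer_iff.1 (h1 (hle x.2)) y y.2).symm

/-- the moved components are permuted by `H` -/
theorem mcomp_conj {K : Subgroup (HQ (R i))} (hK : MComp V R i j K) (h : HQ (R i)) : MComp V R i j (cg h K) := by
  refine l.mcomp_of_le b hij hn (SignalizersComponents.Components.isComponent_conj h hK.1) ?_
  rintro _ ⟨x, hx, rfl⟩
  exact (inferInstance : (normalClosure (AA V R i j : Set (HQ (R i)))).Normal).conj_mem _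
    (l.comp_le_nc b hij hK hx) h

/-- `⟨A^H⟩` is perfect -/
theorem nc_perfect : ⁅normalClosure (AA V R i j : Set (HQ (R i))), normalClosure (AA V R i j : Set (HQ (R i)))⁆ =
    normalClosure (AA V R i j : Set (HQ (R i))) :=
  (l.dat b hij).nc_perfect fun _ hK h => l.mcomp_conj b hij hn hK h

/-- **`S ⊓ ⟨A^H⟩ = ∏ (S ⊓ K)`** -/
theorem sylow_eq (hS : IsPGroup 2 S) : S ⊓ normalClosure (AA V R i j : Set (HQ (R i))) =
    ⨆ K ∈ {K : Subgroup (HQ (R i)) | MComp V R i j K}, S ⊓ K :=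
  (l.dat b hij).sylow_eq hS fun _ hK h => l.mcomp_conj b hij hn hK h

end normal

/-- the product of the moved components is normal if `H = ⟨A^H⟩ N_H(A)` -/
theorem normal_of_fac (hfac : ∀ h : HQ (R i), ∃ x ∈ normalClosure (AA V R i j : Set (HQ (R i))),
    ∃ n, (∀ a ∈ AA V R i j, n * a * n⁻¹ ∈ AA V R i j) ∧ h = x * n) :
    (⨆ K ∈ {K : Subgroup (HQ (R i)) | MComp V R i j K}, K).Normal := by
  have h1 := (l.dat b hij).nc_eq fun _ hK h => (l.dat b hij).inv_of_fac hfac hK h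
  change normalClosure (AA V R i j : Set (HQ (R i))) =
    ⨆ K ∈ {K : Subgroup (HQ (R i)) | MComp V R i j K}, K at h1
  rw [← h1]
  infer_instance

end Lay

namespace Sit

variable {G : Type u} [Group G] [Finite G] {S : Sylow 2 G} {P : Subgroup G} {g : G} {F : Type} [Field F]
  [Finite F] [CharP F 2] {M : NatMod F (zl (S : Subgroup G) P)} (h : Sit S P g M)
include h

/-- `H = ⟨A^H⟩ N_H(A)` -/
theorem fac (hcen : CenSE (zl (S : Subgroup G) P) (pt M)) {i j : Pt M} (hij : i ≠ j) (x : HQ (pt M i)) :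
    ∃ e ∈ normalClosure (AA (zl (S : Subgroup G) P) (pt M) i j : Set (HQ (pt M i))), ∃ n,
      (∀ a ∈ AA (zl (S : Subgroup G) P) (pt M) i j, n * a * n⁻¹ ∈ AA (zl (S : Subgroup G) P) (pt M) i j) ∧
      x = e * n := by
  obtain ⟨y, hy, rfl⟩ := exists_pr x
  obtain ⟨e, he, hV⟩ := h.frattini hcen hij (E := EE (zl (S : Subgroup G) P) (pt M) i j) NR_le_NEE (U_le_EE h.bt)
    (EE_le_cen h.bt) hy
  obtain ⟨heN, heE⟩ := mem_up.1 he
  refine ⟨(Quot.pr (pt M i) ⟨e, heN⟩)⁻¹, inv_mem heE, Quot.pr (pt M i) ⟨e * y, mul_mem heN hy⟩, norm_A h.bt hij _ hV, ?_⟩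
  rw [eq_inv_mul_iff_mul_eq, ← map_mul]
  rfl

/-- **(L8)** the product of the moved components is normal -/
theorem mcomp_normal (hcen : CenSE (zl (S : Subgroup G) P) (pt M)) {i j : Pt M} (hij : i ≠ j)
    {T S' : Subgroup (HQ (pt M i))} (l : Lay (zl (S : Subgroup G) P) (pt M) i j T S') :
    (⨆ K ∈ {K : Subgroup (HQ (pt M i)) | MComp (zl (S : Subgroup G) P) (pt M) i j K}, K).Normal :=
  l.normal_of_fac h.bt hij (h.fac hcen hij)

/-- **`GZero` from a BN-pair of `X ⟨(U j)^{N(R i)}⟩ O₂(N(R i))`** -/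
theorem gZero_of_EE (hcen : CenSE (zl (S : Subgroup G) P) (pt M)) {i j : Pt M} (hij : i ≠ j)
    (hBN : HasBN ↥(XX (zl (S : Subgroup G) P) (pt M) ⊔ EE (zl (S : Subgroup G) P) (pt M) i j)) :
    GZero (zl (S : Subgroup G) P) (pt M) :=
  h.gZero_of hcen hij NR_le_NEE (U_le_EE h.bt) (EE_le_cen h.bt) hBN

end Sit

end Cfsg.Agent.Omega.IIa4

end

section


/-!
# `IIa4.TIRP` (part 3 of the leaf II.a, `q ≥ 4`)
-/

set_option autoImplicit false

namespace Cfsg.Agent.Omega.IIa4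

universe u

theorem tirp : TIRP.{u} := fun _ _ _ _ _ _ _ _ _ _ _ h hs hC => h.tir hs hC

end Cfsg.Agent.Omega.IIa4

end

end
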